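import Cfsg.Agent.H771.KTools_m3
import Cfsg.Agent.CpAutSuz.Gen
import Cfsg.Agent.H603.SporElim
import Cfsg.Agent.KFacts.Co1.CaseM_m3
import Cfsg.Agent.Lib.PermNetFast
import Cfsg.Agent.Prune
set_option linter.all false
prune_inst 0x7f00000000000000000000000000000000000000000000000000000000000000000000000000000000000000000000000000000000000000000000000000000000000000000000000000000000000000003fffffffffffffffffffffffffffbeffbdffffffff
open scoped Cfsg.Agent.FastGrp

/-!
# Orders of elements of `Suz` (S4895, helper153)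
-/

set_option autoImplicit false
set_option maxRecDepth 100000

namespace Cfsg.Agent.H153.Zeros

open Subgroup Cfsg Cfsg.Agent.H92.KTools Cfsg.Agent.H771 Cfsg.Agent.H771.KTools
open Cfsg.Agent.Lib.PermNet Cfsg.Agent.Lib.PermNetOrbit Cfsg.Agent.SporadicRecognition.SuzPhi
open Cfsg.Agent.SuzThree.Basic Cfsg.Agent.CpAutSuz.Fix Cfsg.Agent.SporadicRecognition.SuzOrder

theorem ord_suz_4 : HasOrd Spor.Suz 4 := by
  refine hasOrd_of_pow (x := el [.g, .f]) (by norm_num) ?_ ?_
  · rw [el_pow]
    exact eq_of_reps (Rep.el _) Rep.one (by decide +kernel)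
  · intro p hp
    rw [show Nat.primeFactors 4 = {2} by decide +kernel] at hp
    simp only [Finset.mem_insert, Finset.mem_singleton] at hp
    subst hp
    rw [show 4 / 2 = 2 from rfl, el_pow]
    exact ne_one_of_mv (Rep.el _) (p := 2) (q := 3) (by decide +kernel) (by norm_num)

theorem ord_suz_6 : HasOrd Spor.Suz 6 := by
  refine hasOrd_of_pow (x := el [.d, .b, .g]) (by norm_num) ?_ ?_
  · rw [el_pow]
    exact eq_of_reps (Rep.el _) Rep.one (by decide +kernel)
  · intro p hp
    rw [show Nat.primeFactors 6 = {2, 3} by decide +kernel] at hp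
    simp only [Finset.mem_insert, Finset.mem_singleton] at hp
    rcases hp with rfl | rfl
    · rw [show 6 / 2 = 3 from rfl, el_pow]
      exact ne_one_of_mv (Rep.el _) (p := 4) (q := 8) (by decide +kernel) (by norm_num)
    · rw [show 6 / 3 = 2 from rfl, el_pow]
      exact ne_one_of_mv (Rep.el _) (p := 0) (q := 1) (by decide +kernel) (by norm_num)

theorem ord_suz_8 : HasOrd Spor.Suz 8 := by
  refine hasOrd_of_pow (x := el [.c, .d]) (by norm_num) ?_ ?_
  · rw [el_pow]
    exact eq_of_reps (Rep.el _) Rep.one (by decide +kernel)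
  · intro p hp
    rw [show Nat.primeFactors 8 = {2} by decide +kernel] at hp
    simp only [Finset.mem_insert, Finset.mem_singleton] at hp
    subst hp
    rw [show 8 / 2 = 4 from rfl, el_pow]
    exact ne_one_of_mv (Rep.el _) (p := 2) (q := 3) (by decide +kernel) (by norm_num)

theorem ord_suz_10 : HasOrd Spor.Suz 10 := by
  refine hasOrd_of_pow (x := el [.a, .d, .b]) (by norm_num) ?_ ?_
  · rw [el_pow]
    exact eq_of_reps (Rep.el _) Rep.one (by decide +kernel)
  · intro p hp
    rw [show Nat.primeFactors 10 = {2, 5} by decide +kernel] at hp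
    simp only [Finset.mem_insert, Finset.mem_singleton] at hp
    rcases hp with rfl | rfl
    · rw [show 10 / 2 = 5 from rfl, el_pow]
      exact ne_one_of_mv (Rep.el _) (p := 4) (q := 8) (by decide +kernel) (by norm_num)
    · rw [show 10 / 5 = 2 from rfl, el_pow]
      exact ne_one_of_mv (Rep.el _) (p := 1) (q := 5) (by decide +kernel) (by norm_num)

theorem ord_suz_12 : HasOrd Spor.Suz 12 := by
  refine hasOrd_of_pow (x := el [.e, .c, .d]) (by norm_num) ?_ ?_
  · rw [el_pow]
    exact eq_of_reps (Rep.el _) Rep.one (by decide +kernel)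
  · intro p hp
    rw [show Nat.primeFactors 12 = {2, 3} by decide +kernel] at hp
    simp only [Finset.mem_insert, Finset.mem_singleton] at hp
    rcases hp with rfl | rfl
    · rw [show 12 / 2 = 6 from rfl, el_pow]
      exact ne_one_of_mv (Rep.el _) (p := 2) (q := 3) (by decide +kernel) (by norm_num)
    · rw [show 12 / 3 = 4 from rfl, el_pow]
      exact ne_one_of_mv (Rep.el _) (p := 2) (q := 67) (by decide +kernel) (by norm_num)

set_option Elab.async false in
theorem ord_suz_14 : HasOrd Spor.Suz 14 := by
  refine hasOrd_of_pow (x := el [.b, .e, .g, .c, .f]) (by norm_num) ?_ ?_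
  · rw [el_pow]
    exact eq_of_reps (Rep.el _) Rep.one (by (rewrite [Cfsg.Agent.Lib.PermNetFast.checkEq_fast]; decide +kernel))
  · intro p hp
    rw [show Nat.primeFactors 14 = {2, 7} by decide +kernel] at hp
    simp only [Finset.mem_insert, Finset.mem_singleton] at hp
    rcases hp with rfl | rfl
    · rw [show 14 / 2 = 7 from rfl, el_pow]
      exact ne_one_of_mv (Rep.el _) (p := 8) (q := 14) (by decide +kernel) (by norm_num)
    · rw [show 14 / 7 = 2 from rfl, el_pow]
      exact ne_one_of_mv (Rep.el _) (p := 0) (q := 17) (by decide +kernel) (by norm_num)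

theorem ord_suz_15 : HasOrd Spor.Suz 15 := by
  refine hasOrd_of_pow (x := el [.a, .d, .b, .e]) (by norm_num) ?_ ?_
  · rw [el_pow]
    exact eq_of_reps (Rep.el _) Rep.one (by decide +kernel)
  · intro p hp
    rw [show Nat.primeFactors 15 = {3, 5} by decide +kernel] at hp
    simp only [Finset.mem_insert, Finset.mem_singleton] at hp
    rcases hp with rfl | rfl
    · rw [show 15 / 3 = 5 from rfl, el_pow]
      exact ne_one_of_mv (Rep.el _) (p := 4) (q := 14) (by decide +kernel) (by norm_num)
    · rw [show 15 / 5 = 3 from rfl, el_pow]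
      exact ne_one_of_mv (Rep.el _) (p := 1) (q := 6) (by decide +kernel) (by norm_num)

set_option Elab.async false in
theorem ord_suz_20 : HasOrd Spor.Suz 20 := by
  refine hasOrd_of_pow (x := el [.e, .g, .b, .d, .c, .b, .f]) (by norm_num) ?_ ?_
  · rw [el_pow]
    exact eq_of_reps (Rep.el _) Rep.one (by (rewrite [Cfsg.Agent.Lib.PermNetFast.checkEq_fast]; decide +kernel))
  · intro p hp
    rw [show Nat.primeFactors 20 = {2, 5} by decide +kernel] at hp
    simp only [Finset.mem_insert, Finset.mem_singleton] at hp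
    rcases hp with rfl | rfl
    · rw [show 20 / 2 = 10 from rfl, el_pow]
      exact ne_one_of_mv (Rep.el _) (p := 0) (q := 496) (by decide +kernel) (by norm_num)
    · rw [show 20 / 5 = 4 from rfl, el_pow]
      exact ne_one_of_mv (Rep.el _) (p := 0) (q := 199) (by decide +kernel) (by norm_num)

set_option Elab.async false in
theorem ord_suz_21 : HasOrd Spor.Suz 21 := by
  refine hasOrd_of_pow (x := el [.b, .e, .c, .g, .d, .a]) (by norm_num) ?_ ?_
  · rw [el_pow]
    exact eq_of_reps (Rep.el _) Rep.one (by (rewrite [Cfsg.Agent.Lib.PermNetFast.checkEq_fast]; decide +kernel))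
  · intro p hp
    rw [show Nat.primeFactors 21 = {3, 7} by decide +kernel] at hp
    simp only [Finset.mem_insert, Finset.mem_singleton] at hp
    rcases hp with rfl | rfl
    · rw [show 21 / 3 = 7 from rfl, el_pow]
      exact ne_one_of_mv (Rep.el _) (p := 0) (q := 1501) (by decide +kernel) (by norm_num)
    · rw [show 21 / 7 = 3 from rfl, el_pow]
      exact ne_one_of_mv (Rep.el _) (p := 0) (q := 117) (by decide +kernel) (by norm_num)

set_option Elab.async false in
theorem ord_suz_24 : HasOrd Spor.Suz 24 := by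
  refine hasOrd_of_pow (x := el [.g, .c, .b, .d, .f]) (by norm_num) ?_ ?_
  · rw [el_pow]
    exact eq_of_reps (Rep.el _) Rep.one (by (rewrite [Cfsg.Agent.Lib.PermNetFast.checkEq_fast]; decide +kernel))
  · intro p hp
    rw [show Nat.primeFactors 24 = {2, 3} by decide +kernel] at hp
    simp only [Finset.mem_insert, Finset.mem_singleton] at hp
    rcases hp with rfl | rfl
    · rw [show 24 / 2 = 12 from rfl, el_pow]
      exact ne_one_of_mv (Rep.el _) (p := 0) (q := 86) (by decide +kernel) (by norm_num)
    · rw [show 24 / 3 = 8 from rfl, el_pow]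
      exact ne_one_of_mv (Rep.el _) (p := 0) (q := 1374) (by decide +kernel) (by norm_num)

theorem classes_suz : 17 ≤ Nat.card (ConjClasses Spor.Suz) := by
  have hcard := NotCT.Orders.suz (K := Spor.Suz) ⟨MulEquiv.refl _⟩
  have hfin : Finite Spor.Suz := KFacts.SuzSheetE.finite_suz
  have hd : ∀ p, p.Prime → p ∣ 448345497600 → HasOrd Spor.Suz p := fun p hp hd => hasOrd_prime hp (by rwa [hcard])
  refine le_trans (by decide) (orders_le (G := Spor.Suz) {1, 2, 3, 5, 7, 11, 13, 4, 6, 8, 10, 12, 14, 15, 20, 21, 24} ?_)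
  intro m hm
  simp only [Finset.mem_insert, Finset.mem_singleton] at hm
  rcases hm with rfl | rfl | rfl | rfl | rfl | rfl | rfl | rfl | rfl | rfl | rfl | rfl | rfl | rfl | rfl | rfl | rfl
  · exact hasOrd_one _
  · exact hd 2 (by norm_num) (by norm_num)
  · exact hd 3 (by norm_num) (by norm_num)
  · exact hd 5 (by norm_num) (by norm_num)
  · exact hd 7 (by norm_num) (by norm_num)
  · exact hd 11 (by norm_num) (by norm_num)
  · exact hd 13 (by norm_num) (by norm_num)
  · exact ord_suz_4
  · exact ord_suz_6
  · exact ord_suz_8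
  · exact ord_suz_10
  · exact ord_suz_12
  · exact ord_suz_14
  · exact ord_suz_15
  · exact ord_suz_20
  · exact ord_suz_21
  · exact ord_suz_24

end Cfsg.Agent.H153.Zeros
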