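import Cfsg.Agent.CpAutBig.FreeInv_m3
import Mathlib
import Cfsg.Agent.H153.ZerosSuzOrd
import Cfsg.Agent.H149.Sp.Leech
import Cfsg.Agent.H813.SuzQuot
import Cfsg.Agent.LThreeMB.NegRoot
import Cfsg.Agent.H701.ZerosCols
import Cfsg.Agent.FastGrp
import Cfsg.Agent.Prune
set_option linter.all false

section
prune_inst 0x7f00000000000000000000000000000000000000000000000000000000000000000000000000000000000000000000000000000000000000000000000000000000000000000000000000000000000000003fffffffffffffffffffffffffffbeffbdffffffff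

-- part: H153/ZerosField
section
set_option linter.all false
open scoped Cfsg.Agent.FastGrp

/-!
# Endomorphisms commuting with an element acting as a root of unity of maximal degree (S4895, helper153)

`V` of dimension `φ(n)` over `ℚ`, `Φ_n(u) = 0`: an endomorphism commuting with `u` is zero or injective; an automorphism
of order `m` commuting with `u` has `φ(m) ≤ dim V`.  `n = 39`: the automorphisms of finite order commuting with `a, t` of
orders `13, 3` without fixed points have order dividing `78`; those with `y ^ 6 = 1` are `± t ^ i`.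
-/

set_option autoImplicit false

namespace Cfsg.Agent.H153.Zeros.Fld

open Polynomial Module
open Cfsg.Agent.SigZeroCo2.Rank (fix mem_fix)
open Cfsg.Agent.H149.Sp (totient_le_of_mem)

variable {V : Type*} [AddCommGroup V] [Module ℚ V] [FiniteDimensional ℚ V]

theorem inj_of_comm {u y : End ℚ V} {n : ℕ} (hn : 0 < n) (hu : aeval u (cyclotomic n ℚ) = 0)
    (hV : finrank ℚ V ≤ n.totient) (hc : Commute y u) (h0 : y ≠ 0) : Function.Injective y := by
  rw [← LinearMap.ker_eq_bot]
  by_contra hne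
  obtain ⟨w, hw, hw0⟩ := Submodule.exists_mem_ne_zero_of_ne_bot hne
  have h1 : ∀ v ∈ LinearMap.ker y, u v ∈ LinearMap.ker y := by
    intro v hv
    rw [LinearMap.mem_ker] at hv ⊢
    have h2 := congrArg (fun f : End ℚ V => f v) hc.eq
    simp only [Module.End.mul_apply] at h2
    rw [h2, hv, map_zero]
  have h2 := totient_le_of_mem u (LinearMap.ker y) h1 hn hw hw0 (by rw [hu]; rfl)
  have h3 : LinearMap.ker y = ⊤ := Submodule.eq_top_of_finrank_eq (le_antisymm (Submodule.finrank_le _) (hV.trans h2))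
  exact h0 (LinearMap.ker_eq_top.1 h3)

theorem prod_inj {v : End ℚ V} (s : Finset ℕ) (f : ℕ → ℚ[X]) (h : ∀ d ∈ s, Function.Injective (aeval v (f d))) :
    Function.Injective (aeval v (∏ d ∈ s, f d)) := by
  classical
  induction s using Finset.induction_on with
  | empty => rw [Finset.prod_empty, map_one]; exact fun a b h => h
  | insert a s ha ih =>
    rw [Finset.prod_insert ha, map_mul]
    exact (h a (Finset.mem_insert_self a s)).comp (ih fun d hd => h d (Finset.mem_insert_of_mem hd))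

theorem comm_aeval {u v : End ℚ V} (hc : Commute v u) (P : ℚ[X]) : Commute (aeval v P) u := by
  induction P using Polynomial.induction_on' with
  | add p q hp hq => rw [map_add]; exact hp.add_left hq
  | monomial n a => rw [aeval_monomial]; exact (Algebra.commute_algebraMap_left a u).mul_left (hc.pow_left n)

theorem totient_le [Nontrivial V] {u v : End ℚ V} {n m : ℕ} (hn : 0 < n) (hu : aeval u (cyclotomic n ℚ) = 0)
    (hV : finrank ℚ V ≤ n.totient) (hc : Commute v u) (hm : orderOf v = m) (hm0 : 0 < m) :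
    m.totient ≤ finrank ℚ V := by
  have h1 : aeval v (∏ d ∈ m.divisors, cyclotomic d ℚ) = 0 := by
    rw [prod_cyclotomic_eq_X_pow_sub_one hm0, map_sub, map_pow, aeval_X, map_one, ← hm, pow_orderOf_eq_one, sub_self]
  obtain ⟨d, hd, hd0⟩ : ∃ d ∈ m.divisors, aeval v (cyclotomic d ℚ) = 0 := by
    by_contra hcon
    push Not at hcon
    have h2 := prod_inj (v := v) m.divisors (fun d => cyclotomic d ℚ) fun d hd =>
      inj_of_comm hn hu hV (comm_aeval hc _) (hcon d hd)
    rw [h1] at h2
    obtain ⟨w, hw⟩ := exists_ne (0 : V)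
    exact hw (h2 (by simp))
  have h3 : v ^ d = 1 := by
    obtain ⟨R, hR⟩ := cyclotomic.dvd_X_pow_sub_one d ℚ
    have h4 := congrArg (aeval v) hR
    rw [map_sub, map_pow, aeval_X, map_one, map_mul, hd0, zero_mul, sub_eq_zero] at h4
    exact h4
  have h4 : d = m := Nat.dvd_antisymm (Nat.dvd_of_mem_divisors hd) (hm ▸ orderOf_dvd_of_pow_eq_one h3)
  subst h4
  obtain ⟨w, hw⟩ := exists_ne (0 : V)
  have h5 := totient_le_of_mem v ⊤ (fun _ _ => Submodule.mem_top) hm0 (u := w) Submodule.mem_top hw (by rw [hd0]; rfl)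
  rwa [finrank_top] at h5

theorem sub_one_inj {f : End ℚ V} (h : fix f = ⊥) : Function.Injective (f - 1 : End ℚ V) :=
  LinearMap.ker_eq_bot.1 h

/-- **Commuting elements of orders 13 and 3 without fixed points.** -/
theorem aeval_39 {a t : End ℚ V} (ha : a ^ 13 = 1) (ht : t ^ 3 = 1) (hat : Commute a t)
    (fa : fix a = ⊥) (ft : fix t = ⊥) : aeval (a * t) (cyclotomic 39 ℚ) = 0 := by
  have h1 : (X ^ 39 - 1 : ℚ[X]) ∣ ((X ^ 13 - 1) * (X ^ 3 - 1)) * cyclotomic 39 ℚ := by
    rw [← prod_cyclotomic_eq_X_pow_sub_one (by norm_num : 0 < 39), ← prod_cyclotomic_eq_X_pow_sub_one (by norm_num : 0 < 13),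
      ← prod_cyclotomic_eq_X_pow_sub_one (by norm_num : 0 < 3),
      show Nat.divisors 39 = {1, 3, 13, 39} by decide +kernel, show Nat.divisors 13 = {1, 13} by decide +kernel,
      show Nat.divisors 3 = {1, 3} by decide +kernel]
    rw [Finset.prod_insert (by decide), Finset.prod_insert (by decide), Finset.prod_pair (by decide),
      Finset.prod_pair (by decide), Finset.prod_pair (by decide)]
    exact ⟨cyclotomic 1 ℚ, by ring⟩
  have h39 : (a * t) ^ 39 = 1 := by
    rw [hat.mul_pow, show 39 = 13 * 3 by norm_num, pow_mul, ha, one_pow, one_mul, mul_comm 13 3, pow_mul, ht, one_pow]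
  have h13 : (a * t) ^ 13 = t := by
    rw [hat.mul_pow, ha, one_mul, show 13 = 3 * 4 + 1 by norm_num, pow_succ, pow_mul, ht, one_pow, one_mul]
  have h3 : (a * t) ^ 3 = a ^ 3 := by rw [hat.mul_pow, ht, mul_one]
  obtain ⟨R, hR⟩ := h1
  have h4 := congrArg (aeval (a * t)) hR
  simp only [map_mul, map_sub, map_pow, aeval_X, map_one] at h4
  rw [h39, sub_self, zero_mul, h13, h3] at h4
  have fa3 : fix (a ^ 3) = ⊥ := by rw [Cfsg.Agent.H149.Sp.fix_pow_of_coprime ha (by norm_num), fa]
  ext1 w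
  have h5 := congrArg (fun f : End ℚ V => f w) h4
  simp only [Module.End.mul_apply, LinearMap.zero_apply] at h5
  have h6 := sub_one_inj ft (a₁ := (a ^ 3 - 1 : End ℚ V) ((aeval (a * t) (cyclotomic 39 ℚ)) w)) (a₂ := 0) (by rw [h5, map_zero])
  have h7 := sub_one_inj fa3 (a₁ := (aeval (a * t) (cyclotomic 39 ℚ)) w) (a₂ := 0) (by rw [h6, map_zero])
  rw [h7]; rfl

/-- a zero product of endomorphisms commuting with `u` -/
theorem eq_zero_or {u x y : End ℚ V} {n : ℕ} (hn : 0 < n) (hu : aeval u (cyclotomic n ℚ) = 0)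
    (hV : finrank ℚ V ≤ n.totient) (hx : Commute x u) (h : x * y = 0) : x = 0 ∨ y = 0 := by
  by_cases h0 : x = 0
  · exact Or.inl h0
  · right
    have h1 := inj_of_comm hn hu hV hx h0
    ext1 w
    have h2 := congrArg (fun f : End ℚ V => f w) h
    simp only [Module.End.mul_apply, LinearMap.zero_apply] at h2
    have h3 := h1 (a₁ := y w) (a₂ := 0) (by rw [h2, map_zero])
    rw [h3]; rfl

/-- the orders -/
theorem pow_78 (hV : finrank ℚ V = 24) {a t y : End ℚ V} (ha : a ^ 13 = 1) (ht : t ^ 3 = 1) (hat : Commute a t)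
    (fa : fix a = ⊥) (ft : fix t = ⊥) (hya : Commute y a) (hyt : Commute y t) (hy : orderOf y ≠ 0) : y ^ 78 = 1 := by
  have hnt : Nontrivial V := Module.nontrivial_of_finrank_pos (R := ℚ) (by rw [hV]; norm_num)
  have hu := aeval_39 ha ht hat fa ft
  have h39 : (39 : ℕ).totient = 24 := by decide +kernel
  have hyu : Commute y (a * t) := hya.mul_right hyt
  -- the order of `a * t`
  have ha1 : a ≠ 1 := by
    rintro rfl
    obtain ⟨w, hw⟩ := exists_ne (0 : V)
    have : w ∈ fix (1 : End ℚ V) := mem_fix.2 rfl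
    rw [fa] at this
    exact hw ((Submodule.mem_bot ℚ).1 this)
  have ht1 : t ≠ 1 := by
    rintro rfl
    obtain ⟨w, hw⟩ := exists_ne (0 : V)
    have : w ∈ fix (1 : End ℚ V) := mem_fix.2 rfl
    rw [ft] at this
    exact hw ((Submodule.mem_bot ℚ).1 this)
  have oa : orderOf a = 13 := by
    have : Fact (Nat.Prime 13) := ⟨by norm_num⟩
    exact orderOf_eq_prime ha ha1
  have ot : orderOf t = 3 := by
    have : Fact (Nat.Prime 3) := ⟨by norm_num⟩
    exact orderOf_eq_prime ht ht1
  have ou : orderOf (a * t) = 39 := by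
    rw [hat.orderOf_mul_eq_mul_orderOf_of_coprime (by rw [oa, ot]; norm_num), oa, ot]
  obtain ⟨z, hz, hzo⟩ := hyu.exists_orderOf_eq_lcm
  have hzu : Commute z (a * t) := by
    have h1 : Submonoid.closure {y, a * t} ≤ Submonoid.centralizer {a * t} := by
      rw [Submonoid.closure_le]
      rintro g (rfl | rfl)
      · rw [SetLike.mem_coe, Submonoid.mem_centralizer_iff]
        intro b hb
        obtain rfl := Set.mem_singleton_iff.1 hb
        exact hyu.symm.eq
      · rw [SetLike.mem_coe, Submonoid.mem_centralizer_iff]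
        intro b hb
        obtain rfl := Set.mem_singleton_iff.1 hb
        rfl
    have h2 := Submonoid.mem_centralizer_iff.1 (h1 hz) (a * t) rfl
    exact h2.symm
  rw [ou] at hzo
  have hpos : 0 < Nat.lcm (orderOf y) 39 := Nat.lcm_pos (Nat.pos_of_ne_zero hy) (by norm_num)
  have h1 := totient_le (by norm_num : 0 < 39) hu (by rw [hV, h39]) hzu hzo hpos
  obtain ⟨k, hk⟩ := Nat.dvd_lcm_right (orderOf y) 39
  rw [hk, hV] at h1
  have h2 := (Nat.totient_super_multiplicative 39 k).trans h1
  rw [h39] at h2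
  have hk0 : 0 < k := by
    rcases Nat.eq_zero_or_pos k with h | h
    · rw [h, mul_zero] at hk; omega
    · exact h
  have h3 : k.totient = 1 := by
    have := Nat.totient_pos.2 hk0
    omega
  have h4 : orderOf y ∣ 78 := by
    refine (Nat.dvd_lcm_left (orderOf y) 39).trans ?_
    rw [hk]
    rcases Nat.totient_eq_one_iff.1 h3 with rfl | rfl <;> norm_num
  exact orderOf_dvd_iff_pow_eq_one.1 h4

/-- the elements of order dividing 6 -/
theorem pow_6 (hV : finrank ℚ V = 24) {a t y : End ℚ V} (ha : a ^ 13 = 1) (ht : t ^ 3 = 1) (hat : Commute a t)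
    (fa : fix a = ⊥) (ft : fix t = ⊥) (hya : Commute y a) (hyt : Commute y t) (hy : y ^ 6 = 1) :
    ∃ i : ℕ, y = t ^ i ∨ y = - t ^ i := by
  have hu := aeval_39 ha ht hat fa ft
  have hV' : finrank ℚ V ≤ (39 : ℕ).totient := by rw [hV]; decide +kernel
  have hyu : Commute y (a * t) := hya.mul_right hyt
  have htu : Commute t (a * t) := hat.symm.mul_right (Commute.refl t)
  have h1u : Commute (1 : End ℚ V) (a * t) := Commute.one_left _
  -- `1 + t + t ^ 2 = 0`
  have htt : t ^ 2 + t + 1 = 0 := by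
    ext1 w
    have h1 : (t - 1) * (t ^ 2 + t + 1) = 0 := by
      have : (t - 1) * (t ^ 2 + t + 1) = t ^ 3 - 1 := by noncomm_ring
      rw [this, ht, sub_self]
    have h2 := congrArg (fun f : End ℚ V => f w) h1
    simp only [Module.End.mul_apply, LinearMap.zero_apply] at h2
    have h3 := sub_one_inj ft (a₁ := (t ^ 2 + t + 1 : End ℚ V) w) (a₂ := 0) (by rw [h2, map_zero])
    rw [h3]; rfl
  have ht2 : t ^ 2 = - t - 1 := by
    rw [eq_sub_iff_add_eq, eq_neg_iff_add_eq_zero]
    rw [← htt]; abel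
  -- the cube
  have hc : y ^ 3 = 1 ∨ y ^ 3 = -1 := by
    have h1 : (y ^ 3 - 1) * (y ^ 3 + 1) = 0 := by
      have : (y ^ 3 - 1) * (y ^ 3 + 1) = y ^ 6 - 1 := by noncomm_ring
      rw [this, hy, sub_self]
    rcases eq_zero_or (by norm_num : 0 < 39) hu hV' ((hyu.pow_left 3).sub_left h1u) h1 with h | h
    · exact Or.inl (sub_eq_zero.1 h)
    · exact Or.inr (eq_neg_of_add_eq_zero_left h)
  -- the square
  have hb : ∃ i : ℕ, y ^ 2 = t ^ i := by
    have hb3 : (y ^ 2) ^ 3 = 1 := by rw [← pow_mul]; exact hy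
    set b := y ^ 2 with hbdef
    have hbt : b * t = t * b := (hyt.pow_left 2).eq
    have hbu : Commute b (a * t) := hyu.pow_left 2
    have h1 : (b - 1) * ((b - t) * (b - t ^ 2)) = 0 := by
      have e1 : (b - t) * (b - t ^ 2) = b * b + b + 1 := by
        rw [ht2]
        have : (b - t) * (b - (-t - 1)) = b * b + b - (t * t + t) + (b * t - t * b) := by noncomm_ring
        rw [this, hbt, sub_self, add_zero, ← pow_two t, ht2]
        abel
      rw [e1]
      have : (b - 1) * (b * b + b + 1) = b ^ 3 - 1 := by noncomm_ring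
      rw [this, hb3, sub_self]
    rcases eq_zero_or (by norm_num : 0 < 39) hu hV' (hbu.sub_left h1u) h1 with h | h
    · exact ⟨0, by rw [pow_zero]; exact sub_eq_zero.1 h⟩
    · rcases eq_zero_or (by norm_num : 0 < 39) hu hV' (hbu.sub_left htu) h with h | h
      · exact ⟨1, by rw [pow_one]; exact sub_eq_zero.1 h⟩
      · exact ⟨2, sub_eq_zero.1 h⟩
  obtain ⟨i, hi⟩ := hb
  have hinv : t ^ i * t ^ (2 * i) = 1 := by
    rw [← pow_add, show i + 2 * i = 3 * i by ring, pow_mul, ht, one_pow]
  have hy3 : y = y ^ 3 * t ^ (2 * i) := by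
    rw [pow_succ', hi, mul_assoc, hinv, mul_one]
  refine ⟨2 * i, ?_⟩
  rcases hc with h | h
  · left; rw [hy3, h, one_mul]
  · right; rw [hy3, h, neg_one_mul]

end Cfsg.Agent.H153.Zeros.Fld
end

-- part: H153/ZerosSuz
section
set_option linter.all false
open scoped Cfsg.Agent.FastGrp

/-!
# S4895: the row `Suz` (helper153)

`Suz = C(s) / ⟨s⟩`, `s` of order 3 in `Co1` without fixed points in the Leech lattice modulo 2. An element of `Suz`
commuting with an element of order 13 lifts to an element `g` of `Co0` commuting with elements `a, t` of orders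
`13, 3` without fixed points: `g` lies in a field of degree 24 containing the 39th roots of unity, `g ^ 13 ∈ ± ⟨t⟩`.
-/

set_option autoImplicit false

namespace Cfsg.Agent.H153.Zeros

open Subgroup Cfsg Module Cfsg.Agent.H92.KTools Cfsg.Agent.H504.Zeros
open Cfsg.Agent.SigZeroCo2.Rank (fix mem_fix)
open Cfsg.Agent.SigZeroCo2.Lin
open Cfsg.Agent.LThreeMB (fr XX Zx)
open Cfsg.Agent.LThreeBX.NoSeven
open Cfsg.Spor (Co1)
open Cfsg.Agent.H149.Sp (fd fr_mk_eq finrank_Sp)

theorem rep_neg : rep SporadicA.Co0Basic.negCo0 = -1 := by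
  apply ext_e8
  intro i
  rw [rep_toV]
  change toV (SporadicA.Co0Basic.negCo0.1 _) = -(toV _)
  rw [SporadicA.Co0Basic.negCo0_apply, toV_neg]

theorem mk_neg : (QuotientGroup.mk SporadicA.Co0Basic.negCo0 : Co1) = 1 :=
  (QuotientGroup.eq_one_iff _).2 SporadicA.Co0Basic.negCo0_mem_center

theorem fix_eq_bot {a : Co0} {n : ℕ} (hn : Odd n) (ha : a ^ n = 1) (h : fr (QuotientGroup.mk a : Co1) = 1) :
    fix (rep a) = ⊥ := by
  rw [fr_mk_eq hn ha] at h
  have h1 : fd a = 0 := by
    by_contra h0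
    have := Nat.one_lt_two_pow h0
    omega
  exact Submodule.finrank_eq_zero.1 h1

/-- an element of `Co1` commuting with an element `x` of order 13 and an element `s` of order 3 without fixed points -/
theorem pow13 {g x s : Co1} (hx : orderOf x = 13) (hs : s ^ 3 = 1) (hfs : fr s = 1) (hxs : x * s = s * x)
    (hgx : g * x = x * g) (hgs : g * s = s * g) : ∃ i : ℕ, g ^ 13 = s ^ i := by
  have hfin : Finite Co0 := Cfsg.Agent.CoOneType.FrameFix.finite_co0
  have hfx : fr x = 1 := BpSpor.MBigCo.fr_thirteen hx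
  obtain ⟨a, rfl, ha⟩ := exists_odd (n := 13) (by decide) (show x ^ 13 = 1 by rw [← hx, pow_orderOf_eq_one])
  obtain ⟨t, rfl, ht⟩ := exists_odd (n := 3) (by decide) hs
  obtain ⟨b, rfl⟩ := QuotientGroup.mk_surjective g
  have hat : a * t = t * a := comm_of_mk (n := 13) (by decide) ha hxs
  have hab : a * b = b * a := comm_of_mk (n := 13) (by decide) ha hgx.symm
  have htb : t * b = b * t := comm_of_mk (n := 3) (by decide) ht hgs.symm
  have fa := fix_eq_bot (by decide) ha hfx
  have ft := fix_eq_bot (by decide) ht hfs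
  have ra : rep a ^ 13 = 1 := by rw [← map_pow, ha, map_one]
  have rt : rep t ^ 3 = 1 := by rw [← map_pow, ht, map_one]
  have c1 : Commute (rep a) (rep t) := by
    show rep a * rep t = rep t * rep a
    rw [← map_mul, hat, map_mul]
  have c2 : Commute (rep b) (rep a) := by
    show rep b * rep a = rep a * rep b
    rw [← map_mul, ← hab, map_mul]
  have c3 : Commute (rep b) (rep t) := by
    show rep b * rep t = rep t * rep b
    rw [← map_mul, ← htb, map_mul]
  have ob : orderOf (rep b) ≠ 0 := by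
    rw [orderOf_injective rep rep_injective]
    exact (orderOf_pos b).ne'
  have h78 := Fld.pow_78 finrank_Sp ra rt c1 fa ft c2 c3 ob
  obtain ⟨i, hi⟩ := Fld.pow_6 (y := rep b ^ 13) finrank_Sp ra rt c1 fa ft (c2.pow_left 13) (c3.pow_left 13)
    (by rw [← pow_mul]; exact h78)
  refine ⟨i, ?_⟩
  rcases hi with hi | hi
  · rw [← map_pow, ← map_pow] at hi
    have h1 := rep_injective hi
    rw [← QuotientGroup.mk_pow, h1, QuotientGroup.mk_pow]
  · have hi' : rep (b ^ 13) = rep (SporadicA.Co0Basic.negCo0 * t ^ i) := by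
      rw [map_pow, map_mul, rep_neg, hi, map_pow]
      exact LinearMap.ext fun v => rfl
    have h1 := rep_injective hi'
    rw [← QuotientGroup.mk_pow, h1, QuotientGroup.mk_mul, QuotientGroup.mk_pow, mk_neg, one_mul]

/-- the elements of `C(s) / ⟨s⟩` commuting with an element of order 13 -/
theorem quo13 {s : Co1} (hs3 : s ^ 3 = 1) (hfs : fr s = 1) {x g : XX s} (hx : orderOf x = 13)
    (hg : g * x = x * g) : g ^ 13 = 1 := by
  obtain ⟨x1, hx1, rfl⟩ := LThreeMB.exists_mk x
  obtain ⟨g1, hg1, rfl⟩ := LThreeMB.exists_mk g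
  have hpow : ∀ {y : Co1} (hy : y * s = s * y) (n : ℕ), ∃ hn : y ^ n * s = s * y ^ n,
      LThreeMB.mk s hy ^ n = LThreeMB.mk s hn := by
    intro y hy n
    have hc : Commute y s := hy
    exact ⟨(hc.pow_left n).eq, rfl⟩
  -- the lift of order 13
  have hx13 : LThreeMB.mk s hx1 ^ 13 = 1 := by rw [← hx, pow_orderOf_eq_one]
  obtain ⟨h13, e13⟩ := hpow hx1 13
  rw [e13, LThreeMB.mk_eq_one] at hx13
  obtain ⟨i, hi⟩ := hx13
  have h39 : x1 ^ 39 = 1 := by
    rw [show 39 = 13 * 3 by norm_num, pow_mul, ← hi, ← zpow_natCast, ← zpow_mul, mul_comm, zpow_mul]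
    have : s ^ ((3 : ℕ) : ℤ) = 1 := by rw [zpow_natCast, hs3]
    rw [this, one_zpow]
  have hx1c : Commute x1 s := hx1
  have h2s : x1 ^ 27 * s = s * x1 ^ 27 := (hx1c.pow_left 27).eq
  have e27 : LThreeMB.mk s h2s = LThreeMB.mk s hx1 := by
    have h1 : LThreeMB.mk s hx1 ^ 27 = LThreeMB.mk s h2s := rfl
    rw [← h1, show 27 = 13 * 2 + 1 by norm_num, pow_succ, pow_mul]
    have h2 : LThreeMB.mk s hx1 ^ 13 = 1 := by rw [← hx, pow_orderOf_eq_one]
    rw [h2, one_pow, one_mul]
  have h2p : (x1 ^ 27) ^ 13 = 1 := by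
    rw [← pow_mul, show 27 * 13 = 39 * 9 by norm_num, pow_mul, h39, one_pow]
  have h2o : orderOf (x1 ^ 27) = 13 := by
    have : Fact (Nat.Prime 13) := ⟨by norm_num⟩
    refine orderOf_eq_prime h2p fun h => ?_
    have h1 : LThreeMB.mk s h2s = 1 := (LThreeMB.mk_eq_one h2s).2 ⟨0, by rw [zpow_zero, h]⟩
    rw [← e27, h1, orderOf_one] at hx
    norm_num at hx
  -- the commutator
  have hcomm : g1 * x1 ^ 27 = x1 ^ 27 * g1 := by
    rw [← e27] at hg
    have hgx : g1 * x1 ^ 27 * s = s * (g1 * x1 ^ 27) := by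
      rw [mul_assoc, h2s, ← mul_assoc, hg1, mul_assoc]
    have hxg : x1 ^ 27 * g1 * s = s * (x1 ^ 27 * g1) := by
      rw [mul_assoc, hg1, ← mul_assoc, h2s, mul_assoc]
    have h1 : LThreeMB.mk s hgx = LThreeMB.mk s hxg := hg
    obtain ⟨j, hj⟩ := (LThreeMB.mk_eq_mk hgx hxg).1 h1
    set y := x1 ^ 27 with hy
    have hgs : Commute g1 s := hg1
    have hys : Commute y s := h2s
    -- `g1⁻¹ y g1 = y s ^ j`
    have h2 : g1⁻¹ * y * g1 = y * s ^ j := by
      have h3 : g1⁻¹ * (y * g1) = g1⁻¹ * (g1 * y * s ^ j) := by rw [hj]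
      rw [← mul_assoc] at h3
      rw [h3]; group
    have h3 : (g1⁻¹ * y * g1) ^ 13 = 1 := by
      have : g1⁻¹ * y * g1 = g1⁻¹ * y * (g1⁻¹)⁻¹ := by rw [inv_inv]
      rw [this, conj_pow, h2p, mul_one, mul_inv_cancel]
    rw [h2, (hys.zpow_right j).mul_pow, h2p, one_mul] at h3
    have h4 : s ^ j = 1 := by
      have h5 : (s ^ j) ^ 3 = 1 := by
        rw [← zpow_natCast, ← zpow_mul, mul_comm, zpow_mul, zpow_natCast, hs3, one_zpow]
      have h6 : (s ^ j) ^ 13 = s ^ j := by
        rw [show 13 = 3 * 4 + 1 by norm_num, pow_succ, pow_mul, h5, one_pow, one_mul]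
      rw [← h6, h3]
    rw [h4, mul_one] at hj
    exact hj
  obtain ⟨i, hi⟩ := pow13 h2o hs3 hfs h2s hcomm hg1
  obtain ⟨hn, e⟩ := hpow hg1 13
  rw [e, LThreeMB.mk_eq_one]
  exact ⟨i, by rw [hi, zpow_natCast]⟩

/-- **the centralizer of an element of order 13** -/
theorem card_cent_suz {x : Spor.Suz} (hx : orderOf x = 13) : Nat.card (centralizer ({x} : Set Spor.Suz)) = 13 := by
  have hcard := NotCT.Orders.suz (K := Spor.Suz) ⟨MulEquiv.refl _⟩
  have hfin : Finite Spor.Suz := KFacts.SuzSheetE.finite_suz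
  obtain ⟨e⟩ := LThreeCo1Suz.Main.t0
  have ho := LThreeMB.NegRoot.order_one
  have h13 : ∀ g ∈ centralizer ({x} : Set Spor.Suz), g ^ 13 = 1 := by
    intro g hg
    rw [mem_centralizer_singleton_iff] at hg
    apply e.symm.injective
    rw [map_pow, map_one]
    refine quo13 (x := e.symm x) (by rw [← ho, pow_orderOf_eq_one]) LThreeMB.NegRoot.fr_one ?_ ?_
    · rw [MulEquiv.orderOf_eq, hx]
    · rw [← map_mul, hg, map_mul]
  have : Fact (Nat.Prime 13) := ⟨by norm_num⟩
  have hp : IsPGroup 13 (centralizer ({x} : Set Spor.Suz)) := by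
    rintro ⟨g, hg⟩
    exact ⟨1, Subtype.ext (by rw [pow_one]; exact h13 g hg)⟩
  obtain ⟨n, hn⟩ := hp.exists_card_eq
  have h1 : 13 ^ n ∣ 448345497600 := by
    rw [← hn, ← hcard]
    exact card_subgroup_dvd_card _
  have h2 : 13 ∣ Nat.card (centralizer ({x} : Set Spor.Suz)) := by
    have h3 : x ∈ centralizer ({x} : Set Spor.Suz) := mem_centralizer_singleton_iff.2 rfl
    have h4 := orderOf_dvd_natCard (⟨x, h3⟩ : centralizer ({x} : Set Spor.Suz))
    rwa [Subgroup.orderOf_mk, hx] at h4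
  rw [hn] at h2 ⊢
  have h3 : n < 2 := by
    by_contra hge
    push Not at hge
    have h4 : 13 ^ 2 ∣ 448345497600 := (pow_dvd_pow 13 hge).trans h1
    norm_num at h4
  have h4 : n ≠ 0 := by
    rintro rfl
    norm_num at h2
  obtain rfl : n = 1 := by omega
  norm_num

theorem suz_model : Big Spor.Suz := by
  have hcard := NotCT.Orders.suz (K := Spor.Suz) ⟨MulEquiv.refl _⟩
  have hfin : Finite Spor.Suz := KFacts.SuzSheetE.finite_suz
  obtain ⟨x, hx⟩ : HasOrd Spor.Suz 13 := hasOrd_prime (by norm_num) (by rw [hcard]; norm_num)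
  exact big_of_isolated (r := 13) (n := 34488115200) (e := 6) (m := 2) (k := 17) (by norm_num) hx (card_cent_suz hx)
    (by rw [hcard]) (by norm_num) (by norm_num) (by norm_num) classes_suz (by norm_num)

/-- **the row `Suz`** -/
theorem suz {S : Type*} [Group S] (h : Cfsg.Spor.IsoSuz S) : Cfsg.Agent.H504.Zeros.Big S := by
  obtain ⟨e⟩ := h
  exact Big.of_equiv e suz_model

end Cfsg.Agent.H153.Zeros
end
end
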