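import Cfsg.Agent.H771.KMT
import Cfsg.Agent.H701.ZerosCols
import Cfsg.Agent.H547.SelfCent.McLHS
import Cfsg.Agent.H613.Ly5.ThirtyOne
import Cfsg.Agent.H603.SporElim
import Cfsg.Agent.Prune
set_option linter.all false
prune_inst 0x7f00000000000000000000000000000000000000000000000000000000000000000000000000000000000000000000000000000000000000000000000000000000000000000000000000000000000000003fffffffffffffffffffffffffffbeffbdffffffff
open scoped Cfsg.Agent.FastGrp

/-!
# Zeros of characters: `McL` (S4895, helper153)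

`|C(x)| = 11`, `e = 5`, `m = 2`; 13 orders different from 11 (8 and 12 come from `2.A8`).
-/

set_option autoImplicit false

namespace Cfsg.Agent.H153.Zeros

open Subgroup Cfsg Cfsg.Agent.H92.KTools Cfsg.Agent.H771.KTools Cfsg.Agent.TypeM.Two Equiv

universe u v

/-- an element of the centralizer lying over `σ` with `σ ^ k` a double transposition has order `4 k` -/
theorem ord_of_mt {K : Type v} [Group K] (L : MT 8 K) (σ : Perm (Fin 8)) (hσ : Perm.sign σ = 1) (k : ℕ)
    (hk : k ≠ 0) (hk4 : ∀ p ∈ (4 * k).primeFactors, p = 2 ∨ σ ^ (4 * k / p) ≠ 1)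
    (h : σ ^ k = swap (0 : Fin 8) 1 * swap (2 : Fin 8) 3) : HasOrd K (4 * k) := by
  obtain ⟨g, hg⟩ := L.K.exists_lift (σ := σ) (Perm.mem_alternatingGroup.2 hσ)
  have h1 := L.K.dbl 0 1 2 3 (by decide) (by decide) (by decide) (by decide) (by decide) (by decide) (g ^ k) (by
    rw [map_pow, hg, h])
  have h2 : g ^ (4 * k / 2) ≠ 1 := by
    have h3 : 4 * k / 2 = k + k := by omega
    rw [h3, pow_add, h1]
    exact L.K.z_ne
  refine HasOrd.of_subgroup (hasOrd_of_pow (x := g) (by omega) ?_ fun p hp => ?_)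
  · have h3 : 4 * k = (k + k) + (k + k) := by ring
    rw [h3, pow_add, pow_add, h1]
    exact L.K.z_mul_z
  · rcases hk4 p hp with rfl | h4
    · exact h2
    · intro h5
      apply h4
      rw [← hg, ← map_pow, h5, map_one]

theorem eight_of_mt {K : Type v} [Group K] (L : MT 8 K) : HasOrd K 8 :=
  ord_of_mt L (swap (0 : Fin 8) 2 * swap (2 : Fin 8) 1 * swap (1 : Fin 8) 3 * swap (4 : Fin 8) 5) (by decide +kernel) 2 (by norm_num)
    (by
      intro p hp
      left
      have h1 := Nat.prime_of_mem_primeFactors hp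
      have h2 : p ∣ 2 ^ 3 := Nat.dvd_of_mem_primeFactors hp
      exact (Nat.prime_dvd_prime_iff_eq h1 Nat.prime_two).1 (h1.dvd_of_dvd_pow h2))
    (by decide +kernel)

theorem twelve_of_mt {K : Type v} [Group K] (L : MT 8 K) : HasOrd K 12 :=
  ord_of_mt L (swap (0 : Fin 8) 1 * swap (2 : Fin 8) 3 * (swap (4 : Fin 8) 5 * swap (5 : Fin 8) 6)) (by decide +kernel) 3 (by norm_num)
    (by
      intro p hp
      have h1 := Nat.prime_of_mem_primeFactors hp
      have h2 : p ∣ 2 ^ 2 * 3 := Nat.dvd_of_mem_primeFactors hp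
      rcases h1.dvd_mul.1 h2 with h3 | h3
      · left
        exact (Nat.prime_dvd_prime_iff_eq h1 Nat.prime_two).1 (h1.dvd_of_dvd_pow h3)
      · right
        rw [(Nat.prime_dvd_prime_iff_eq h1 Nat.prime_three).1 h3]
        decide +kernel)
    (by decide +kernel)

theorem mcl_orders {S : Type*} [Group S] (h : Spor.IsoMcL S) :
    ∀ m ∈ ({1, 2, 3, 5, 7, 4, 6, 10, 14, 15, 30, 8, 12} : Finset ℕ), ∃ g : S, orderOf g = m := by
  obtain ⟨hfin, -, hcard, ⟨L⟩⟩ := TypeM.FactsMcL.facts h
  have hc : Nat.card (centralizer ({L.t} : Set S)) = Nat.factorial 8 :=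
    TypeM.FactsAut.card_centralizer L (by norm_num)
  have h15 : HasOrd (centralizer ({L.t} : Set S)) 15 := by
    refine HasOrd.of_surjective ?_ (H799.MTSyl.proj L) (H799.MTSyl.proj_surj L)
    refine hasOrd_alt (x := Equiv.swap (0 : Fin 8) 1 * Equiv.swap (1 : Fin 8) 2 * (Equiv.swap (3 : Fin 8) 4 * Equiv.swap (4 : Fin 8) 5 * Equiv.swap (5 : Fin 8) 6 * Equiv.swap (6 : Fin 8) 7))
      (by decide +kernel) (by norm_num) (by decide +kernel) (by decide +kernel)
  have h30 := two_mul_of_cent L.t_mul_t L.t_ne (by decide) h15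
  have hd : ∀ p, p.Prime → p ∣ 898128000 → HasOrd S p := fun p hp hd => hasOrd_prime hp (by rwa [hcard])
  have h2d : ∀ p, p.Prime → p ≠ 2 → p ∣ Nat.factorial 8 → HasOrd S (2 * p) := fun p hp hp2 hd =>
    two_mul_prime L.t_mul_t L.t_ne hp hp2 (by rwa [hc])
  intro m hm
  simp only [Finset.mem_insert, Finset.mem_singleton] at hm
  rcases hm with rfl | rfl | rfl | rfl | rfl | rfl | rfl | rfl | rfl | rfl | rfl | rfl | rfl
  · exact hasOrd_one S
  · exact hd 2 (by norm_num) (by norm_num)
  · exact hd 3 (by norm_num) (by norm_num)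
  · exact hd 5 (by norm_num) (by norm_num)
  · exact hd 7 (by norm_num) (by norm_num)
  · exact H771.KMT.four_of_mt (by norm_num) L
  · exact h2d 3 (by norm_num) (by norm_num) (by norm_num [Nat.factorial])
  · exact h2d 5 (by norm_num) (by norm_num) (by norm_num [Nat.factorial])
  · exact h2d 7 (by norm_num) (by norm_num) (by norm_num [Nat.factorial])
  · exact h15.of_subgroup
  · exact h30
  · exact eight_of_mt L
  · exact twelve_of_mt L

/-- **`McL`** -/
theorem mcl {S : Type*} [Group S] (h : Cfsg.Spor.IsoMcL S) : Cfsg.Agent.H504.Zeros.Big S := by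
  obtain ⟨hfin, hsimple, hcard, -⟩ := TypeM.FactsMcL.facts h
  have hna := H393.Iso.na_mcl h
  obtain ⟨x, hx⟩ := hasOrd_prime (G := S) (p := 11) (by norm_num) (by rw [hcard]; norm_num)
  have hc := H547.SelfCent.McLHS.mcl h hna hcard hx
  exact H504.Zeros.big_of_index_orders (H504.Zeros.cc_of_prime (by norm_num) hx hc) (a := 11)
    (n := 81648000) (e := 5) (m := 2) (by rw [Nat.card_zpowers, hx]) (by rw [hcard]) (by norm_num) (by norm_num)
    (by norm_num) (by norm_num) _ (mcl_orders h) (by decide) (by decide)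

end Cfsg.Agent.H153.Zeros
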