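import Cfsg.Agent.H771.KTools_m3
import Cfsg.Agent.Co2Type.Mono
import Cfsg.Agent.Prune
set_option linter.all false
prune_inst 0x7f00000000000000000000000000000000000000000000000000000000000000000000000000000000000000000000000000000000000000000000000000000000000000000000000000000000000000003fffffffffffffffffffffffffffbeffbdffffffff
open scoped Cfsg.Agent.FastGrp

/-!
# Orders of monomial elements of `Co2` and `Co0` (S4895, helper153)
-/

set_option autoImplicit false

namespace Cfsg.Agent.H153.Zeros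

open Subgroup Cfsg Cfsg.Agent.H92.KTools Cfsg.Agent.H771.KTools
open Cfsg.Agent.SporadicA.GolayBase Cfsg.Agent.SporadicA.GolayPerm Cfsg.Agent.SporadicStructure.M24El
  Cfsg.Agent.Co2Type.Mono Cfsg.Agent.SporadicA.Co0Mono

/-- powers of a monomial pair -/
def mpw (m P : ℕ) : ℕ → ℕ × ℕ
  | 0 => (0, idP)
  | n + 1 => (m ^^^ pimg P (mpw m P n).1, pcomp P (mpw m P n).2)

/-- equality of pairs -/
def peq (x y : ℕ × ℕ) : Bool := Nat.beq x.1 y.1 && Nat.beq x.2 y.2

theorem peq_iff {x y : ℕ × ℕ} : peq x y = true ↔ x = y := by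
  unfold peq
  rw [Bool.and_eq_true, Nat.beq_eq, Nat.beq_eq, Prod.ext_iff]

theorem mo2_pow {m P : ℕ} (hm : inE m = true) (hP : okP P = true) (n : ℕ) :
    inE (mpw m P n).1 = true ∧ okP (mpw m P n).2 = true ∧ mo2 m P ^ n = mo2 (mpw m P n).1 (mpw m P n).2 := by
  induction n with
  | zero => exact ⟨inE_zero, okP_idP, by rw [pow_zero]; exact mo2_one.symm⟩
  | succ n ih =>
    obtain ⟨h1, h2, h3⟩ := ih
    refine ⟨inE_xor hm (inE_pimg hP h1), okP_pcomp hP h2, ?_⟩
    rw [pow_succ', h3, mo2_mul hm h1 hP h2]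
    rfl

/-- the pair has order `n` in `Co2` -/
def chk2 (m P n : ℕ) (ps : List ℕ) : Bool :=
  inE m && (okP P && (peq (mpw m P n) (0, idP) && ps.all fun p => Nat.blt (mpw m P (n / p)).2 (2 ^ 120) &&
    !peq (mpw m P (n / p)) (0, idP)))

theorem hasOrd_co2 {m P n : ℕ} (hn : 0 < n) (ps : List ℕ) (hps : ∀ p ∈ n.primeFactors, p ∈ ps)
    (h : chk2 m P n ps = true) : HasOrd Spor.Co2 n := by
  unfold chk2 at h
  rw [Bool.and_eq_true, Bool.and_eq_true, Bool.and_eq_true, List.all_eq_true] at h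
  obtain ⟨hm, hP, h1, h2⟩ := h
  refine hasOrd_of_pow (x := mo2 m P) hn ?_ fun p hp hc => ?_
  · rw [(mo2_pow hm hP n).2.2, peq_iff.1 h1]
    exact mo2_one
  · have h3 := h2 p (hps p hp)
    rw [Bool.and_eq_true, Nat.blt_eq, Bool.not_eq_true', ← Bool.not_eq_true, peq_iff] at h3
    obtain ⟨h4, h5, h6⟩ := mo2_pow hm hP (n / p)
    rw [h6, ← mo2_one] at hc
    have h7 := mo2_inj h4 inE_zero h5 okP_idP h3.1 (by decide +kernel) hc
    exact h3.2 (Prod.ext h7.1 h7.2)

theorem mo_pow {m P : ℕ} (hm : isCode m = true) (hP : ok P = true) (n : ℕ) :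
    isCode (mpw m P n).1 = true ∧ ok (mpw m P n).2 = true ∧ mo m P ^ n = mo (mpw m P n).1 (mpw m P n).2 := by
  induction n with
  | zero => exact ⟨isCode_zero, ok_idP, by rw [pow_zero]; exact mo_one.symm⟩
  | succ n ih =>
    obtain ⟨h1, h2, h3⟩ := ih
    refine ⟨isCode_xor hm (isCode_pimg hP h1), ok_pcomp hP h2, ?_⟩
    rw [pow_succ', h3, mo_mul hm h1 hP h2]
    rfl

end Cfsg.Agent.H153.Zeros
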