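import Cfsg.Agent.H771.KTools_m3
import Cfsg.Agent.H153.ZerosMono
import Cfsg.Agent.H771.KCo1
import Cfsg.Agent.H547.SelfCent.Conway
import Cfsg.Agent.H393.Iso.Co1
import Cfsg.Agent.H701.ZerosCols
import Cfsg.Agent.H455.ZeroTools
import Cfsg.Agent.H328.KSpor
import Cfsg.Agent.H713.Spor.Fi23
import Cfsg.Agent.H393.Iso.Fi23
import Cfsg.Agent.H713.Spor.B
import Cfsg.Agent.H710.Spor.HNMix
import Cfsg.Agent.H393.Iso.He
import Cfsg.Agent.H713.Spor.M
import Cfsg.Agent.H393.Iso.Monster
import Cfsg.Agent.S5534
import Cfsg.Agent.S5538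
import Cfsg.Agent.H771.KCo23
import Cfsg.Agent.H701.SporCo2
import Cfsg.Agent.H393.Iso.Co2
import Cfsg.Agent.H713.Spor.FiTF
import Cfsg.Agent.H701.SporCo3
import Cfsg.Agent.H393.Iso.Co3
import Cfsg.Agent.Prune
set_option linter.all false

section
prune_inst 0x7f00000000000000000000000000000000000000000000000000000000000000000000000000000000000000000000000000000000000000000000000000000000000000000000000000000000000000003fffffffffffffffffffffffffffbeffbdffffffff

-- part: H153/ZerosCount
section
set_option linter.all false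
open scoped Cfsg.Agent.FastGrp

/-!
# Class numbers from several classes of involutions (S4895, helper153)
-/

set_option autoImplicit false

namespace Cfsg.Agent.H153.Zeros

open Subgroup Cfsg.Agent.H92.KTools Cfsg.Agent.H771.KTools

universe u

variable {G : Type u} [Group G]

theorem pow_mul_inv {z c : G} {p : ℕ} (hz : z * z = 1) (hc : orderOf c = p) (hzc : Commute z c) (hp : Odd p) :
    (z * c) ^ p = z := by
  obtain ⟨m, hm⟩ := hp
  rw [hzc.mul_pow]
  have h3 : c ^ p = 1 := by rw [← hc, pow_orderOf_eq_one]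
  rw [h3, mul_one, hm, pow_succ, pow_mul, pow_two, hz, one_pow, one_mul]

theorem order_mul_inv {z c : G} {p : ℕ} (hz : z * z = 1) (hz1 : z ≠ 1) (hc : orderOf c = p) (hzc : Commute z c)
    (hp : Odd p) : orderOf (z * c) = 2 * p := by
  rw [hzc.orderOf_mul_eq_mul_orderOf_of_coprime (by
    rw [ord_two hz hz1, hc]; exact Nat.coprime_two_left.2 hp), ord_two hz hz1, hc]

/-- **several classes of involutions** `t i`: `P i` = odd orders of elements of the centralizer of `t i`, `A` = a set
of other orders -/
theorem count_fam [Finite G] {r : ℕ} (t : Fin r → G) (tt : ∀ i, t i * t i = 1) (t1 : ∀ i, t i ≠ 1)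
    (hn : ∀ i j, IsConj (t i) (t j) → i = j) (P : Fin r → Finset ℕ)
    (hP : ∀ i, ∀ n ∈ P i, Odd n ∧ HasOrd (centralizer ({t i} : Set G)) n)
    (A : Finset ℕ) (hA : ∀ n ∈ A, HasOrd G n) (hPA : ∀ i, ∀ n ∈ P i, 2 * n ∉ A) :
    A.card + ∑ i, (P i).card ≤ Nat.card (ConjClasses G) := by
  classical
  have h1 : ∀ a : A, ∃ g : G, orderOf g = a := fun a => hA a a.2
  choose f hf using h1
  have h2 : ∀ b : (Σ i : Fin r, P i), ∃ c : G, orderOf c = (b.2 : ℕ) ∧ Commute (t b.1) c := by
    intro b
    obtain ⟨c, hc⟩ := (hP b.1 b.2 b.2.2).2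
    exact ⟨c, by rw [← hc, Subgroup.orderOf_coe], (mem_centralizer_singleton_iff.1 c.2).symm⟩
  choose c hc using h2
  have ho : ∀ b : (Σ i : Fin r, P i), orderOf (t b.1 * c b) = 2 * (b.2 : ℕ) := fun b =>
    order_mul_inv (tt _) (t1 _) (hc b).1 (hc b).2 (hP b.1 b.2 b.2.2).1
  have hp : ∀ b : (Σ i : Fin r, P i), (t b.1 * c b) ^ (b.2 : ℕ) = t b.1 := fun b =>
    pow_mul_inv (tt _) (hc b).1 (hc b).2 (hP b.1 b.2 b.2.2).1
  let F : A ⊕ (Σ i : Fin r, P i) → G := Sum.elim f fun b => t b.1 * c b
  have hF := card_le_of_inj F (by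
    rintro (a | b) (a' | b') h
    · have h3 := orderOf_eq_of_isConj h
      change orderOf (f a) = orderOf (f a') at h3
      rw [hf, hf] at h3
      exact congrArg Sum.inl (Subtype.ext h3)
    · have h3 := orderOf_eq_of_isConj h
      change orderOf (f a) = orderOf (t b'.1 * c b') at h3
      rw [hf, ho] at h3
      exact absurd (h3 ▸ a.2) (hPA b'.1 b'.2 b'.2.2)
    · have h3 := orderOf_eq_of_isConj h
      change orderOf (t b.1 * c b) = orderOf (f a') at h3
      rw [hf, ho] at h3
      exact absurd (h3.symm ▸ a'.2) (hPA b.1 b.2 b.2.2)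
    · have h3 := orderOf_eq_of_isConj h
      change orderOf (t b.1 * c b) = orderOf (t b'.1 * c b') at h3
      rw [ho, ho] at h3
      have h4 : (b.2 : ℕ) = (b'.2 : ℕ) := by omega
      have h5 := pow_conj h (b.2 : ℕ)
      change IsConj ((t b.1 * c b) ^ (b.2 : ℕ)) ((t b'.1 * c b') ^ (b.2 : ℕ)) at h5
      rw [hp, h4, hp] at h5
      have h6 := hn _ _ h5
      obtain ⟨i, x, hx⟩ := b
      obtain ⟨j, y, hy⟩ := b'
      change i = j at h6
      change x = y at h4
      subst h6
      subst h4
      rfl)
  rw [Nat.card_sum, Nat.card_eq_fintype_card, Fintype.card_coe, Nat.card_eq_fintype_card, Fintype.card_sigma] at hF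
  simpa only [Fintype.card_coe] using hF

end Cfsg.Agent.H153.Zeros
end

-- part: H153/ZerosCo1_mg
section
set_option linter.all false
open scoped Cfsg.Agent.FastGrp

-- part: H153/ZerosCo1
section
/-!
# S4895: the row `Co1` (helper153)
-/

set_option autoImplicit false

namespace Cfsg.Agent.H153.Zeros

open Subgroup Cfsg Cfsg.Agent.H92.KTools Cfsg.Agent.H771 Cfsg.Agent.H771.KTools Cfsg.Agent.H504.Zeros
open Cfsg.Agent.SporadicA.GolayBase Cfsg.Agent.SporadicA.GolayPerm Cfsg.Agent.SporadicStructure.M24El
  Cfsg.Agent.Co2Type.Mono Cfsg.Agent.SporadicA.Co0Mono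
open Cfsg.Agent.SporadicA.Co1Simple (allOne)
open Cfsg.Agent.CoOneType.ClosingFacts (mk mk_mul mk_eq_one)

theorem isCode_all : isCode 16777215 = true := by decide +kernel

theorem mo_all : mo 16777215 idP = signCo0 allOne := by
  have h : cd 16777215 = allOne := by
    apply Subtype.ext
    rw [coe_cd isCode_all, word_all]
    rfl
  unfold mo
  rw [h, el_idP, map_one, mul_one]

/-- the pair has order `n` in `Co1` -/
def chk1 (m P n : ℕ) (ps : List ℕ) : Bool :=
  isCode m && (ok P && ((peq (mpw m P n) (0, idP) || peq (mpw m P n) (16777215, idP)) && ps.all fun p =>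
    Nat.blt (mpw m P (n / p)).2 (2 ^ 120) &&
    (!peq (mpw m P (n / p)) (0, idP) && !peq (mpw m P (n / p)) (16777215, idP))))

theorem mk_pow (t : Co0) (n : ℕ) : _root_.Cfsg.Agent.CoOneType.ClosingFacts.mk (t ^ n) = _root_.Cfsg.Agent.CoOneType.ClosingFacts.mk t ^ n := map_pow (QuotientGroup.mk' (Subgroup.center Co0)) t n

theorem hasOrd_co1 {m P n : ℕ} (hn : 0 < n) (ps : List ℕ) (hps : ∀ p ∈ n.primeFactors, p ∈ ps)
    (h : chk1 m P n ps = true) : HasOrd Spor.Co1 n := by
  unfold chk1 at h
  rw [Bool.and_eq_true, Bool.and_eq_true, Bool.and_eq_true, List.all_eq_true] at h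
  obtain ⟨hm, hP, h1, h2⟩ := h
  refine hasOrd_of_pow (G := Spor.Co1) (x := _root_.Cfsg.Agent.CoOneType.ClosingFacts.mk (mo m P)) hn ?_ fun p hp hc => ?_
  · rw [← mk_pow, (mo_pow hm hP n).2.2, mk_eq_one]
    rw [Bool.or_eq_true, peq_iff, peq_iff] at h1
    rcases h1 with h1 | h1
    · left; rw [h1]; exact mo_one
    · right; rw [h1]; exact mo_all
  · have h3 := h2 p (hps p hp)
    rw [Bool.and_eq_true, Nat.blt_eq, Bool.and_eq_true, Bool.not_eq_true', Bool.not_eq_true', ← Bool.not_eq_true,
      ← Bool.not_eq_true, peq_iff, peq_iff] at h3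
    obtain ⟨h4, h5, h6⟩ := mo_pow hm hP (n / p)
    rw [← mk_pow, h6, mk_eq_one] at hc
    rcases hc with hc | hc
    · rw [← mo_one] at hc
      have h7 := mo_inj h4 isCode_zero hc
      exact h3.2.1 (Prod.ext h7.1 (el_inj h5 ok_idP h3.1 (by decide +kernel) h7.2))
    · rw [← mo_all] at hc
      have h7 := mo_inj h4 isCode_all hc
      exact h3.2.2 (Prod.ext h7.1 (el_inj h5 ok_idP h3.1 (by decide +kernel) h7.2))

theorem hasOrd_co1' {m P n : ℕ} (hn : 0 < n) (ps : List ℕ) (hps : n.primeFactors = ps.toFinset)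
    (h : chk1 m P n ps = true) : HasOrd Spor.Co1 n :=
  hasOrd_co1 hn ps (fun p hp => by rwa [hps, List.mem_toFinset] at hp) h

theorem ord_co1_4 : HasOrd Spor.Co1 4 :=
  hasOrd_co1' (m := 6907443) (P := 52194344081723823267811392165994101) (by norm_num) [2] (by decide +kernel) (by decide +kernel)

theorem ord_co1_6 : HasOrd Spor.Co1 6 :=
  hasOrd_co1' (m := 4800613) (P := 970050235999621671550196643189069834) (by norm_num) [2, 3] (by decide +kernel) (by decide +kernel)

theorem ord_co1_8 : HasOrd Spor.Co1 8 :=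
  hasOrd_co1' (m := 2422785) (P := 801483145005644315113214483570603172) (by norm_num) [2] (by decide +kernel) (by decide +kernel)

theorem ord_co1_10 : HasOrd Spor.Co1 10 :=
  hasOrd_co1' (m := 15203217) (P := 524545510946204533708841291933209671) (by norm_num) [2, 5] (by decide +kernel) (by decide +kernel)

theorem ord_co1_12 : HasOrd Spor.Co1 12 :=
  hasOrd_co1' (m := 5073078) (P := 479341186067287047165193050934088839) (by norm_num) [2, 3] (by decide +kernel) (by decide +kernel)

theorem ord_co1_14 : HasOrd Spor.Co1 14 :=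
  hasOrd_co1' (m := 12202091) (P := 302049531505826347186948684444248105) (by norm_num) [2, 7] (by decide +kernel) (by decide +kernel)

theorem ord_co1_15 : HasOrd Spor.Co1 15 :=
  hasOrd_co1' (m := 11114125) (P := 962486556104510525870578661363231971) (by norm_num) [3, 5] (by decide +kernel) (by decide +kernel)

theorem ord_co1_16 : HasOrd Spor.Co1 16 :=
  hasOrd_co1' (m := 13730651) (P := 972706584467388408789580780811865749) (by norm_num) [2] (by decide +kernel) (by decide +kernel)

theorem ord_co1_20 : HasOrd Spor.Co1 20 :=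
  hasOrd_co1' (m := 9573863) (P := 524545510946204533708841291933209671) (by norm_num) [2, 5] (by decide +kernel) (by decide +kernel)

theorem ord_co1_21 : HasOrd Spor.Co1 21 :=
  hasOrd_co1' (m := 14457568) (P := 458434697261223992212566866134737558) (by norm_num) [3, 7] (by decide +kernel) (by decide +kernel)

theorem ord_co1_22 : HasOrd Spor.Co1 22 :=
  hasOrd_co1' (m := 7332001) (P := 315760530662625095496592670637513760) (by norm_num) [2, 11] (by decide +kernel) (by decide +kernel)

theorem ord_co1_24 : HasOrd Spor.Co1 24 :=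
  hasOrd_co1' (m := 9419663) (P := 479341186067287047165193050934088839) (by norm_num) [2, 3] (by decide +kernel) (by decide +kernel)

theorem ord_co1_28 : HasOrd Spor.Co1 28 :=
  hasOrd_co1' (m := 12240623) (P := 302049531505826347186948684444248105) (by norm_num) [2, 7] (by decide +kernel) (by decide +kernel)

theorem ord_co1_30 : HasOrd Spor.Co1 30 :=
  hasOrd_co1' (m := 10278476) (P := 962486556104510525870578661363231971) (by norm_num) [2, 3, 5] (by decide +kernel) (by decide +kernel)

theorem co1_model : Big Spor.Co1 := by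
  have hcard : Nat.card Spor.Co1 = 4157776806543360000 := NotCT.Orders.co1 ⟨MulEquiv.refl _⟩
  have hfG : Finite Spor.Co1 := Nat.finite_of_card_ne_zero (by rw [hcard]; norm_num)
  have hd : ∀ p, p.Prime → p ∣ 4157776806543360000 → HasOrd Spor.Co1 p := fun p hp hd =>
    hasOrd_prime hp (by rwa [hcard])
  have hk' : 21 ≤ Nat.card (ConjClasses Spor.Co1) := by
    refine le_trans (by decide) (orders_le (G := Spor.Co1) {1, 2, 3, 5, 7, 11, 13, 23, 4, 6, 8, 10, 12, 14, 15, 16, 20, 21, 22, 24, 28, 30} ?_)
    intro m hm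
    simp only [Finset.mem_insert, Finset.mem_singleton] at hm
    rcases hm with rfl | rfl | rfl | rfl | rfl | rfl | rfl | rfl | rfl | rfl | rfl | rfl | rfl | rfl | rfl | rfl | rfl | rfl | rfl | rfl | rfl | rfl
    · exact hasOrd_one _
    · exact hd 2 (by norm_num) (by norm_num)
    · exact hd 3 (by norm_num) (by norm_num)
    · exact hd 5 (by norm_num) (by norm_num)
    · exact hd 7 (by norm_num) (by norm_num)
    · exact hd 11 (by norm_num) (by norm_num)
    · exact hd 13 (by norm_num) (by norm_num)
    · exact hd 23 (by norm_num) (by norm_num)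
    · exact ord_co1_4
    · exact ord_co1_6
    · exact ord_co1_8
    · exact ord_co1_10
    · exact ord_co1_12
    · exact ord_co1_14
    · exact ord_co1_15
    · exact ord_co1_16
    · exact ord_co1_20
    · exact ord_co1_21
    · exact ord_co1_22
    · exact ord_co1_24
    · exact ord_co1_28
    · exact ord_co1_30
  have hna : H393.Iso.NA 23 Spor.Co1 := H393.Iso.na_co1_model
  obtain ⟨x, hx⟩ := hd 23 (by norm_num) (by norm_num)
  have hc := H547.SelfCent.Conway.co1 (G := Spor.Co1) ⟨MulEquiv.refl _⟩ hna hx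
  exact big_of_isolated (r := 23) (n := 180772904632320000) (e := 11) (m := 2) (k := 21) (by norm_num) hx hc
    (by rw [hcard]) (by norm_num) (by norm_num) (by norm_num) hk' (by norm_num)

/-- **the row `Co1`** -/
theorem co1 {S : Type*} [Group S] (h : Cfsg.Spor.IsoCo1 S) : Cfsg.Agent.H504.Zeros.Big S := by
  obtain ⟨e⟩ := h
  exact Big.of_equiv e co1_model

end Cfsg.Agent.H153.Zeros
end

-- part: H455/ZerosFi23
section
/-!
# S4895: the row of `Fi₂₃` (helper455)
-/

set_option autoImplicit false

namespace Cfsg.Agent.H455.ZerosFi23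

open Cfsg Cfsg.Agent.H504.Zeros Cfsg.Agent.H92.KTools Cfsg.Agent.H455.ZeroTools Cfsg.Agent.H455.FewDZ

theorem chk23 : chk 4089470473293004800 23 = true := by decide +kernel

/-- element orders of `S_9` -/
theorem perm_orders {G : Type*} [Group G] (φ : Equiv.Perm (Fin 9) →* G) (hφ : Function.Injective φ) :
    ∀ n ∈ ({1, 2, 3, 4, 5, 6, 7, 8, 9, 10, 12, 14, 15, 20} : Finset ℕ), HasOrd G n := by
  have key : ∀ (m : Multiset ℕ) {n : ℕ}, m.sum ≤ 9 → (∀ a ∈ m, 2 ≤ a) → m.lcm = n → HasOrd G n :=
    fun m _ h1 h2 h3 => h3 ▸ (Cfsg.Agent.H328.KSpor.hasOrd_perm m h1 h2).of_injective φ hφ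
  intro n hn
  simp only [Finset.mem_insert, Finset.mem_singleton] at hn
  rcases hn with rfl | rfl | rfl | rfl | rfl | rfl | rfl | rfl | rfl | rfl | rfl | rfl | rfl | rfl
  · exact hasOrd_one G
  · exact key {2} (by decide) (by decide) (by decide)
  · exact key {3} (by decide) (by decide) (by decide)
  · exact key {4} (by decide) (by decide) (by decide)
  · exact key {5} (by decide) (by decide) (by decide)
  · exact key {6} (by decide) (by decide) (by decide)
  · exact key {7} (by decide) (by decide) (by decide)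
  · exact key {8} (by decide) (by decide) (by decide)
  · exact key {9} (by decide) (by decide) (by decide)
  · exact key {2, 5} (by decide) (by decide) (by decide)
  · exact key {3, 4} (by decide) (by decide) (by decide)
  · exact key {2, 7} (by decide) (by decide) (by decide)
  · exact key {3, 5} (by decide) (by decide) (by decide)
  · exact key {4, 5} (by decide) (by decide) (by decide)

/-- **The row of `Fi₂₃`.** -/
theorem fi23 {S : Type*} [Group S] (h : Cfsg.Spor.IsoFi23 S) : Big S := by
  obtain ⟨e⟩ := h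
  refine Big.of_equiv e ?_
  have hc : Nat.card Cfsg.Spor.Fi23 = 4089470473293004800 := Cfsg.Agent.Fischer.Fi23Simple.card_Fi23
  have hfin : Finite Cfsg.Spor.Fi23 := Nat.finite_of_card_ne_zero (by rw [hc]; norm_num)
  have h23 : Fact (Nat.Prime 23) := ⟨by norm_num⟩
  obtain ⟨φ, hφ⟩ := Cfsg.Agent.H328.KSpor.s9_fi23
  have hp : ∀ p : ℕ, p.Prime → p ∣ 4089470473293004800 → HasOrd Cfsg.Spor.Fi23 p :=
    fun p hp hd => hasOrd_prime hp (by rw [hc]; exact hd)
  have h2 : ∀ p : ℕ, p.Prime → p ≠ 2 → p ∣ 2 * 64561751654400 → HasOrd Cfsg.Spor.Fi23 (2 * p) :=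
    fun p hp hp2 hd => hasOrd_two_mul hp hp2 Cfsg.Agent.H713.Spor.Fi23.orderOf_z0
      (by rw [Cfsg.Agent.H713.Spor.Fi23.card_z0]; exact hd)
  refine big_of_orders_few (r := 23) (n := 177803064056217600) (e := 11) (m := 2)
    Cfsg.Agent.H713.Spor.Fi23.hasDZ_23 hc (by norm_num) (by norm_num) (by norm_num)
    (by norm_num) (by norm_num) Cfsg.Agent.H393.Iso.na_fi23_model chk23
    ({1, 2, 3, 4, 5, 6, 7, 8, 9, 10, 12, 14, 15, 20} ∪ {11, 13, 17, 22, 26}) ?_ (by decide) (by decide)
  intro n hn
  rcases Finset.mem_union.1 hn with hn | hn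
  · exact perm_orders φ hφ n hn
  · simp only [Finset.mem_insert, Finset.mem_singleton] at hn
    rcases hn with rfl | rfl | rfl | rfl | rfl
    · exact hp 11 (by norm_num) (by norm_num)
    · exact hp 13 (by norm_num) (by norm_num)
    · exact hp 17 (by norm_num) (by norm_num)
    · exact h2 11 (by norm_num) (by norm_num) (by norm_num)
    · exact h2 13 (by norm_num) (by norm_num) (by norm_num)

end Cfsg.Agent.H455.ZerosFi23
end

-- part: H455/ZerosB
section
/-!
# S4895: the row of the Baby Monster (helper455)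
-/

set_option autoImplicit false

namespace Cfsg.Agent.H455.ZerosB

open Cfsg Subgroup Cfsg.Agent.H504.Zeros Cfsg.Agent.H92.KTools Cfsg.Agent.H455.ZeroTools Cfsg.Agent.H455.FewDZ
open Cfsg.Agent.H440.TwoGen

theorem chk31 : chk 4154781481226426191177580544000000 31 = true := by decide +kernel

/-! ### A symmetric group of degree 9 -/

/-- the path of eight nodes -/
def pB (i : ℕ) : Spor.BabyMonster.Gen :=
  [Spor.BabyMonster.Gen.t1, .t2, .t3, .t4, .t5, .t6, .t7, .t8].getD i .t1

abbrev gg (x : Spor.BabyMonster.Gen) : Spor.BabyMonster :=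
  Cox.g Spor.BabyMonster.edges Spor.BabyMonster.extra x

theorem nodeB : ∀ x : Spor.BabyMonster.Gen, x ∈ Spor.coxNodes Spor.BabyMonster.edges := by
  intro x; cases x <;> decide

theorem s9_b : ∃ φ : Equiv.Perm (Fin 9) →* Spor.BabyMonster, Function.Injective φ := by
  refine Cfsg.Agent.H328.KSpor.exists_inj (n := 8) (by norm_num) (fun i => gg (pB i)) (fun i _ => Cox.sq (nodeB _))
    (fun i hi => Cox.braid (nodeB _) (nodeB _) ?_) (fun i j hij hj => Cox.comm (nodeB _) (nodeB _) ?_) ?_
  · have : ∀ i < 7, Spor.coxLabel Spor.BabyMonster.edges (pB i) (pB (i + 1)) = 3 := by decide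
    exact this i (by omega)
  · have : ∀ i < 8, ∀ j < 8, i + 1 < j → Spor.coxLabel Spor.BabyMonster.edges (pB i) (pB j) = 2 := by decide +kernel
    exact this i (by omega) j hj hij
  intro h01
  have hp := Cfsg.Agent.H328.KSpor.path_eq (extra := Spor.BabyMonster.extra) (edges := Spor.BabyMonster.edges)
    (n := 8) pB nodeB (by decide) (by decide +kernel) h01
  set t := gg (pB 0) with ht
  have ht2 : t * t = 1 := Cox.sq (nodeB _)
  have step : ∀ x y : Spor.BabyMonster.Gen, gg y = t → Spor.coxLabel Spor.BabyMonster.edges x y = 3 →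
      Spor.coxLabel Spor.BabyMonster.edges x (pB 0) = 2 → gg x = t := by
    intro x y hy h3 h2
    apply Cfsg.Agent.H328.KSpor.eq_of_comm_braid (Cox.sq (nodeB _)) ht2
    · exact Cox.comm (nodeB _) (nodeB _) h2
    · rw [← hy]
      exact Cox.braid (nodeB _) (nodeB _) h3
  have h5 : gg .t5 = t := hp 4 (by norm_num)
  have h9 : gg .t9 = t := step .t9 .t5 h5 (by decide) (by decide)
  have h10 : gg .t10 = t := step .t10 .t9 h9 (by decide) (by decide)
  have h11 : gg .t11 = t := step .t11 .t10 h10 (by decide) (by decide)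
  have htop : Subgroup.zpowers t = ⊤ := by
    apply Cox.eq_top_of_forall
    intro x
    cases x
    · exact Subgroup.mem_zpowers t
    · rw [show Cox.g Spor.BabyMonster.edges Spor.BabyMonster.extra .t2 = t from hp 1 (by norm_num)]
      exact Subgroup.mem_zpowers t
    · rw [show Cox.g Spor.BabyMonster.edges Spor.BabyMonster.extra .t3 = t from hp 2 (by norm_num)]
      exact Subgroup.mem_zpowers t
    · rw [show Cox.g Spor.BabyMonster.edges Spor.BabyMonster.extra .t4 = t from hp 3 (by norm_num)]
      exact Subgroup.mem_zpowers t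
    · rw [show Cox.g Spor.BabyMonster.edges Spor.BabyMonster.extra .t5 = t from hp 4 (by norm_num)]
      exact Subgroup.mem_zpowers t
    · rw [show Cox.g Spor.BabyMonster.edges Spor.BabyMonster.extra .t6 = t from hp 5 (by norm_num)]
      exact Subgroup.mem_zpowers t
    · rw [show Cox.g Spor.BabyMonster.edges Spor.BabyMonster.extra .t7 = t from hp 6 (by norm_num)]
      exact Subgroup.mem_zpowers t
    · rw [show Cox.g Spor.BabyMonster.edges Spor.BabyMonster.extra .t8 = t from hp 7 (by norm_num)]
      exact Subgroup.mem_zpowers t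
    · rw [show Cox.g Spor.BabyMonster.edges Spor.BabyMonster.extra .t9 = t from h9]
      exact Subgroup.mem_zpowers t
    · rw [show Cox.g Spor.BabyMonster.edges Spor.BabyMonster.extra .t10 = t from h10]
      exact Subgroup.mem_zpowers t
    · rw [show Cox.g Spor.BabyMonster.edges Spor.BabyMonster.extra .t11 = t from h11]
      exact Subgroup.mem_zpowers t
  have h2 : Nat.card Spor.BabyMonster ∣ 2 := by
    rw [← Subgroup.card_top, ← htop, Nat.card_zpowers, orderOf_dvd_iff_pow_eq_one, pow_two, ht2]
  rw [Cfsg.Agent.H713.Spor.B.card_b] at h2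
  exact absurd (Nat.le_of_dvd (by norm_num) h2) (by norm_num)

/-! ### A transposition -/

theorem exists_t : ∃ t : Spor.BabyMonster, orderOf t = 2 ∧
    Nat.card (centralizer ({t} : Set Spor.BabyMonster)) = 306129918735099415756800 := by
  obtain ⟨K, _, _, _, t, X₀, σ, -, ht, hc⟩ := CTwoTab.BInst.exists_sec
  refine ⟨t, ?_, hc⟩
  have h1 : (PresentedGroup.of Spor.BabyMonster.Gen.t1 : Spor.BabyMonster) ≠ 1 := by
    intro e
    rw [e, isConj_one_left] at ht
    rw [ht] at hc
    have h6 : centralizer ({1} : Set Spor.BabyMonster) = ⊤ := by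
      rw [eq_top_iff]
      intro x _
      rw [mem_centralizer_singleton_iff, mul_one, one_mul]
    rw [h6, card_top, Cfsg.Agent.H713.Spor.B.card_b] at hc
    norm_num at hc
  obtain ⟨g, hg⟩ := isConj_iff.1 ht.symm
  rw [← hg]
  refine (MulEquiv.orderOf_eq (MulAut.conj g) _).trans (orderOf_eq_prime ?_ h1)
  rw [pow_two]
  exact Cox.sq (edges := Spor.BabyMonster.edges) (extra := Spor.BabyMonster.extra) (nodeB .t1)

theorem b_orders : ∀ n ∈ (({1, 2, 3, 4, 5, 6, 7, 8, 9, 10, 12, 14, 15, 20} : Finset ℕ) ∪
    {11, 13, 17, 19, 23, 47} ∪ {22, 26, 34, 38}), HasOrd Spor.BabyMonster n := by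
  have hc := Cfsg.Agent.H713.Spor.B.card_b
  have hfin : Finite Spor.BabyMonster := Nat.finite_of_card_ne_zero (by rw [hc]; norm_num)
  obtain ⟨φ, hφ⟩ := s9_b
  obtain ⟨t, ht, htc⟩ := exists_t
  have hp : ∀ p : ℕ, p.Prime → p ∣ 4154781481226426191177580544000000 → HasOrd Spor.BabyMonster p :=
    fun p hp hd => hasOrd_prime hp (by rw [hc]; exact hd)
  have h2 : ∀ p : ℕ, p.Prime → p ≠ 2 → p ∣ 306129918735099415756800 → HasOrd Spor.BabyMonster (2 * p) :=
    fun p hp hp2 hd => hasOrd_two_mul hp hp2 ht (by rw [htc]; exact hd)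
  intro n hn
  rcases Finset.mem_union.1 hn with hn | hn
  · rcases Finset.mem_union.1 hn with hn | hn
    · exact Cfsg.Agent.H455.ZerosFi23.perm_orders φ hφ n hn
    · simp only [Finset.mem_insert, Finset.mem_singleton] at hn
      rcases hn with rfl | rfl | rfl | rfl | rfl | rfl <;> exact hp _ (by norm_num) (by norm_num)
  · simp only [Finset.mem_insert, Finset.mem_singleton] at hn
    rcases hn with rfl | rfl | rfl | rfl
    · exact h2 11 (by norm_num) (by norm_num) (by norm_num)
    · exact h2 13 (by norm_num) (by norm_num) (by norm_num)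
    · exact h2 17 (by norm_num) (by norm_num) (by norm_num)
    · exact h2 19 (by norm_num) (by norm_num) (by norm_num)

/-- **The row of the Baby Monster.** -/
theorem b {S : Type*} [Group S] (h : Cfsg.Spor.IsoB S) : Big S := by
  obtain ⟨e⟩ := h
  refine Big.of_equiv e ?_
  have hc := Cfsg.Agent.H713.Spor.B.card_b
  have hfin : Finite Spor.BabyMonster := Nat.finite_of_card_ne_zero (by rw [hc]; norm_num)
  have h31 : Fact (Nat.Prime 31) := ⟨by norm_num⟩
  exact big_of_orders_few (r := 31) (n := 134025209071820199715405824000000) (e := 15) (m := 2)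
    Cfsg.Agent.H713.Spor.B.hasDZ_31 hc (by norm_num) (by norm_num) (by norm_num)
    (by norm_num) (by norm_num)
    (Cfsg.Agent.H393.Iso.NA.of_card fun t ht hd => by
      rcases Cfsg.Agent.H713.Spor.B.dvd_cases (by norm_num) (by norm_num) ht hd with h | h
      · exact absurd h (by norm_num)
      · exact absurd h (by norm_num)) chk31 _ b_orders (by decide +kernel) (by decide +kernel)

end Cfsg.Agent.H455.ZerosB
end

-- part: H455/ZerosHN
section
/-!
# S4895: the row of `HN` (helper455)
-/

set_option autoImplicit false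

namespace Cfsg.Agent.H455.ZerosHN

open Cfsg Cfsg.Agent.H504.Zeros Cfsg.Agent.H92.KTools Cfsg.Agent.H455.ZeroTools Cfsg.Agent.H455.FewDZ

theorem chk19 : chk 273030912000000 19 = true := by decide +kernel

/-- element orders of `A_k`, `k ≥ 12` -/
theorem alt_orders {G : Type*} [Group G] {k : ℕ} (hk : 12 ≤ k)
    (φ : alternatingGroup (Fin k) →* G) (hφ : Function.Injective φ) :
    ∀ n ∈ ({1, 2, 3, 4, 5, 6, 7, 8, 9, 10, 11, 12, 14, 15, 20, 21, 30, 35} : Finset ℕ), HasOrd G n := by
  have key : ∀ m : Multiset ℕ, m.sum ≤ 12 → (∀ a ∈ m, 2 ≤ a) → Even (m.sum + Multiset.card m) →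
      HasOrd G m.lcm :=
    fun m h1 h2 h3 => (Cfsg.Agent.H328.KSpor.hasOrd_alt m (h1.trans hk) h2 h3).of_injective φ hφ
  intro n hn
  simp only [Finset.mem_insert, Finset.mem_singleton] at hn
  rcases hn with rfl | rfl | rfl | rfl | rfl | rfl | rfl | rfl | rfl | rfl | rfl | rfl | rfl | rfl | rfl | rfl |
    rfl | rfl
  · exact hasOrd_one G
  · exact key {2, 2} (by decide) (by decide) (by decide)
  · exact key {3} (by decide) (by decide) (by decide)
  · exact key {2, 4} (by decide) (by decide) (by decide)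
  · exact key {5} (by decide) (by decide) (by decide)
  · exact key {2, 2, 3} (by decide) (by decide) (by decide)
  · exact key {7} (by decide) (by decide) (by decide)
  · exact key {2, 8} (by decide) (by decide) (by decide)
  · exact key {9} (by decide) (by decide) (by decide)
  · exact key {2, 2, 5} (by decide) (by decide) (by decide)
  · exact key {11} (by decide) (by decide) (by decide)
  · exact key {2, 3, 4} (by decide) (by decide) (by decide)
  · exact key {2, 2, 7} (by decide) (by decide) (by decide)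
  · exact key {3, 5} (by decide) (by decide) (by decide)
  · exact key {2, 4, 5} (by decide) (by decide) (by decide)
  · exact key {3, 7} (by decide) (by decide) (by decide)
  · exact key {2, 2, 3, 5} (by decide) (by decide) (by decide)
  · exact key {5, 7} (by decide) (by decide) (by decide)

/-- **The row of `HN`.** -/
theorem hn {S : Type*} [Group S] (h : Cfsg.Spor.IsoHN S) : Big S := by
  obtain ⟨e⟩ := h
  refine Big.of_equiv e ?_
  have hfin : Finite Cfsg.Spor.HN := Cfsg.Agent.H710.Spor.HN.finite_hn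
  have h19 : Fact (Nat.Prime 19) := ⟨by norm_num⟩
  have hs : IsSimpleGroup Cfsg.Spor.HN := Cfsg.Agent.H710.Spor.HN.isSimple_hn
  obtain ⟨K, ⟨f⟩⟩ := Cfsg.Agent.HN.A12Group.exists_alternating
  refine big_of_orders_few (r := 19) (n := 14370048000000) (e := 9) (m := 2)
    Cfsg.Agent.H710.Spor.HN.hasDZ_19 Cfsg.Agent.H710.Spor.HN.card_hn (by norm_num) (by norm_num) (by norm_num)
    (by norm_num) (by norm_num) Cfsg.Agent.H393.Iso.na_hn_model chk19 _
    (alt_orders (k := 12) le_rfl (K.subtype.comp f.symm.toMonoidHom)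
      (K.subtype_injective.comp f.symm.injective)) (by decide) (by decide)

end Cfsg.Agent.H455.ZerosHN
end

-- part: H455/ZerosM
section
/-!
# S4895: the row of the Monster (helper455)
-/

set_option autoImplicit false

namespace Cfsg.Agent.H455.ZerosM

open Cfsg Subgroup Cfsg.Agent.H504.Zeros Cfsg.Agent.H92.KTools Cfsg.Agent.H455.ZeroTools Cfsg.Agent.H455.FewDZ

theorem chk59 : chk 808017424794512875886459904961710757005754368000000000 59 = true := by decide +kernel

theorem card_m : Nat.card Spor.Monster = 808017424794512875886459904961710757005754368000000000 :=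
  Cfsg.Agent.H713.Spor.M.card_eq ⟨MulEquiv.refl _⟩

/-- orders of elements of the Monster -/
theorem m_orders : ∀ n ∈ (({1, 2, 3, 4, 5, 6, 7, 8, 9, 10, 11, 12, 14, 15, 20, 21, 30, 35} : Finset ℕ) ∪
    {13, 17, 19, 23, 29, 31, 41, 47, 71} ∪ {18, 22, 26, 34, 38, 46, 62, 94}), HasOrd Spor.Monster n := by
  have hc := card_m
  have hfin : Finite Spor.Monster := Nat.finite_of_card_ne_zero (by rw [hc]; norm_num)
  obtain ⟨y, hy, -, ⟨f⟩, -⟩ := Cfsg.Agent.S5534.result
  obtain ⟨H, ⟨e⟩⟩ := Cfsg.Agent.S5538.result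
  have hhn : Finite Cfsg.Spor.HN := Cfsg.Agent.H710.Spor.HN.finite_hn
  have hs : IsSimpleGroup Cfsg.Spor.HN := Cfsg.Agent.H710.Spor.HN.isSimple_hn
  obtain ⟨K, ⟨f'⟩⟩ := Cfsg.Agent.HN.A12Group.exists_alternating
  have hB : Finite Spor.BabyMonster := Nat.finite_of_card_ne_zero (by
    rw [Cfsg.Agent.H713.Spor.B.card_b]; norm_num)
  have hp : ∀ p : ℕ, p.Prime → p ∣ 808017424794512875886459904961710757005754368000000000 →
      HasOrd Spor.Monster p := fun p hp hd => hasOrd_prime hp (by rw [hc]; exact hd)
  have h2 : ∀ n : ℕ, Odd n → HasOrd Spor.BabyMonster n → HasOrd Spor.Monster (2 * n) := by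
    intro n hn hb
    refine HasOrd.two_mul_cent hy hn ?_
    exact hb.of_surjective (f.toMonoidHom.comp (QuotientGroup.mk' _))
      (f.surjective.comp (QuotientGroup.mk'_surjective _))
  intro n hn
  rcases Finset.mem_union.1 hn with hn | hn
  · rcases Finset.mem_union.1 hn with hn | hn
    · exact Cfsg.Agent.H455.ZerosHN.alt_orders (k := 12) le_rfl
        (H.subtype.comp (e.symm.toMonoidHom.comp (K.subtype.comp f'.symm.toMonoidHom)))
        (H.subtype_injective.comp (e.symm.injective.comp (K.subtype_injective.comp f'.symm.injective))) n hn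
    · simp only [Finset.mem_insert, Finset.mem_singleton] at hn
      rcases hn with rfl | rfl | rfl | rfl | rfl | rfl | rfl | rfl | rfl <;>
        exact hp _ (by norm_num) (by norm_num)
  · have hb : ∀ p : ℕ, p.Prime → p ∣ 4154781481226426191177580544000000 → HasOrd Spor.BabyMonster p :=
      fun p hp hd => hasOrd_prime hp (by rw [Cfsg.Agent.H713.Spor.B.card_b]; exact hd)
    simp only [Finset.mem_insert, Finset.mem_singleton] at hn
    rcases hn with rfl | rfl | rfl | rfl | rfl | rfl | rfl | rfl
    · exact h2 9 (by decide) (Cfsg.Agent.H455.ZerosB.b_orders 9 (by decide +kernel))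
    · exact h2 11 (by decide) (hb 11 (by norm_num) (by norm_num))
    · exact h2 13 (by decide) (hb 13 (by norm_num) (by norm_num))
    · exact h2 17 (by decide) (hb 17 (by norm_num) (by norm_num))
    · exact h2 19 (by decide) (hb 19 (by norm_num) (by norm_num))
    · exact h2 23 (by decide) (hb 23 (by norm_num) (by norm_num))
    · exact h2 31 (by decide) (hb 31 (by norm_num) (by norm_num))
    · exact h2 47 (by decide) (hb 47 (by norm_num) (by norm_num))

/-- two classes of involutions -/
theorem two_classes : ∃ x y : Spor.Monster, orderOf x = 2 ∧ orderOf y = 2 ∧ ¬ IsConj x y := by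
  have hc := card_m
  have hfin : Finite Spor.Monster := Nat.finite_of_card_ne_zero (by rw [hc]; norm_num)
  obtain ⟨y, hy, hz, ⟨f⟩, -⟩ := Cfsg.Agent.S5534.result
  have h1 : Nat.card (centralizer ({y} : Set Spor.Monster)) = 2 * 4154781481226426191177580544000000 := by
    rw [← Subgroup.card_mul_index (center (centralizer ({y} : Set Spor.Monster))), hz]
    congr 1
    rw [← Cfsg.Agent.H713.Spor.B.card_b]
    exact Nat.card_congr f.toEquiv
  obtain ⟨z, hz2, hyz⟩ := Cfsg.Agent.H713.exists_not_isConj_of_even hy (by rw [h1, hc]; norm_num)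
  exact ⟨y, z, hy, hz2, hyz⟩

/-- **The row of the Monster.** -/
theorem m {S : Type*} [Group S] (h : Cfsg.Spor.IsoM S) : Big S := by
  obtain ⟨e⟩ := h
  refine Big.of_equiv e ?_
  have hc := card_m
  have hfin : Finite Spor.Monster := Nat.finite_of_card_ne_zero (by rw [hc]; norm_num)
  have h59 : Fact (Nat.Prime 59) := ⟨by norm_num⟩
  have hM : Spor.IsoM Spor.Monster := ⟨MulEquiv.refl _⟩
  obtain ⟨u, hu, hu'⟩ := Cfsg.Agent.H713.Spor.M.exists_29 hM
  obtain ⟨x, y, hx, hy, hxy⟩ := two_classes
  set k := orderOf u with hk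
  set s : Finset ℕ := (({1, 2, 3, 4, 5, 6, 7, 8, 9, 10, 11, 12, 14, 15, 20, 21, 30, 35} : Finset ℕ) ∪
    {13, 17, 19, 23, 29, 31, 41, 47, 71} ∪ {18, 22, 26, 34, 38, 46, 62, 94}) with hs
  have hks : k ∉ s := by
    intro h
    have h1 : ∀ n ∈ s, 29 ∣ n → n = 29 := by rw [hs]; decide +kernel
    exact hu' (h1 k h hu)
  refine big_of_lists_few (r := 59) (n := 13695210589737506370956947541723911135690752000000000) (e := 29) (m := 2)
    (Cfsg.Agent.H713.Spor.M.hasDZ_59 hM) hc (by norm_num) (by norm_num) (by norm_num)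
    (by norm_num) (by norm_num) (Cfsg.Agent.H393.Iso.na_m hM (Or.inr (Or.inl rfl))) chk59
    (insert k s) (fun n => if n = 2 then 2 else 1) ?_ ?_ ?_
  · intro n hn
    rcases Finset.mem_insert.1 hn with rfl | hn
    · have hk2 : k ≠ 2 := by
        intro h
        rw [h] at hu
        exact absurd hu (by norm_num)
      simp only [if_neg hk2]
      exact one_list ⟨u, rfl⟩
    · by_cases h2 : n = 2
      · subst h2
        simp only [if_true]
        exact two_list hx hy hxy
      · simp only [if_neg h2]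
        exact one_list (m_orders n hn)
  · rw [Finset.mem_insert, not_or]
    refine ⟨?_, by rw [hs]; decide +kernel⟩
    intro h
    rw [← h] at hu
    exact absurd hu (by norm_num)
  · rw [Finset.sum_insert hks]
    have h3 : ∑ n ∈ s, (if n = 2 then 2 else 1) = 36 := by rw [hs]; decide +kernel
    have hk2 : k ≠ 2 := by
      intro h
      rw [h] at hu
      exact absurd hu (by norm_num)
    rw [h3, if_neg hk2]
    norm_num

end Cfsg.Agent.H455.ZerosM
end
end

-- part: H153/ZerosCo2_mg
section
set_option linter.all false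
open scoped Cfsg.Agent.FastGrp

-- part: H153/ZerosCo2
section
/-!
# S4895: the row `Co2` (helper153)
-/

set_option autoImplicit false

namespace Cfsg.Agent.H153.Zeros

open Subgroup Cfsg Cfsg.Agent.H92.KTools Cfsg.Agent.H771 Cfsg.Agent.H771.KTools Cfsg.Agent.H504.Zeros
open Cfsg.Agent.SporadicStructure.M24El Cfsg.Agent.Co2Type.Mono Cfsg.Agent.Co2Type.TData Cfsg.Agent.Co2Type.TGroup
open Cfsg.Agent.Co2Type.FactsClass Cfsg.Agent.Co2Type.FactsD

theorem co2_model : Big Spor.Co2 := by
  have hcard : Nat.card Spor.Co2 = 42305421312000 := Cfsg.Agent.Schreier.CoTwoStab.card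
  have hfG : Finite Spor.Co2 := Nat.finite_of_card_ne_zero (by rw [hcard]; norm_num)
  have := Cfsg.Agent.Schreier.CoTwoStab.isSimpleGroup
  have H := KFacts.CoTwo.QuotInst.hyp
  obtain ⟨π, hπ, -⟩ := KFacts.CoTwo.Quot.quot H
  have hfS : Finite SporRec.TwoSp6.Sp.S := Finite.of_surjective π hπ
  have hS : ∀ m, HasOrd SporRec.TwoSp6.Sp.S m → HasOrd (centralizer ({mo2 mz idP} : Set Spor.Co2)) m :=
    fun m h => h.of_surjective π hπ
  have hp : ∀ p, p.Prime → p ∣ 1451520 → HasOrd (centralizer ({mo2 mz idP} : Set Spor.Co2)) p := fun p hp hd =>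
    hS p (hasOrd_prime hp (by rwa [SporRec.TwoSp6.Sp.card_S]))
  have hd : ∀ p, p.Prime → p ∣ 42305421312000 → HasOrd Spor.Co2 p := fun p hp hd =>
    hasOrd_prime hp (by rwa [hcard])
  have hz1 : mo2 mz idP ≠ 1 := by
    intro hc
    have := Cfsg.Agent.Co2Type.FactsClass.tr_z
    rw [hc, tr_one] at this
    omega
  have hy1 : mo2 my idP ≠ 1 := by
    intro hc
    have := Cfsg.Agent.Co2Type.FactsClass.tr_y
    rw [hc, tr_one] at this
    omega
  have hv1 : mo2 mv idP ≠ 1 := by
    intro hc
    have := Cfsg.Agent.Co2Type.FactsClass.tr_v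
    rw [hc, tr_one] at this
    omega
  have hk := count_fam (G := Spor.Co2) ![mo2 mz idP, mo2 my idP, mo2 mv idP]
    (by
      intro i; fin_cases i
      · exact Cfsg.Agent.Co2Type.FactsD.ge_sq iz
      · exact Cfsg.Agent.Co2Type.FactsD.ge_sq iy
      · exact Cfsg.Agent.Co2Type.FactsD.ge_sq iv)
    (by
      intro i; fin_cases i
      · exact hz1
      · exact hy1
      · exact hv1)
    (by
      intro i j h
      fin_cases i <;> fin_cases j
      · rfl
      · exact absurd h not_zy
      · exact absurd h not_zv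
      · exact absurd h.symm not_zy
      · rfl
      · exact absurd h not_yv
      · exact absurd h.symm not_zv
      · exact absurd h.symm not_yv
      · rfl)
    ![{1, 3, 5, 7, 9, 15}, {1}, {1}]
    (by
      intro i n hn
      fin_cases i
      · change n ∈ ({1, 3, 5, 7, 9, 15} : Finset ℕ) at hn
        change Odd n ∧ HasOrd (centralizer ({mo2 mz idP} : Set _)) n
        simp only [Finset.mem_insert, Finset.mem_singleton] at hn
        rcases hn with rfl | rfl | rfl | rfl | rfl | rfl
        · exact ⟨by decide, hasOrd_one _⟩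
        · exact ⟨by decide, hp 3 (by norm_num) (by norm_num)⟩
        · exact ⟨by decide, hp 5 (by norm_num) (by norm_num)⟩
        · exact ⟨by decide, hp 7 (by norm_num) (by norm_num)⟩
        · exact ⟨by decide, hS 9 KSp6.nine⟩
        · exact ⟨by decide, hS 15 KSp6.fifteen⟩
      · change n ∈ ({1} : Finset ℕ) at hn
        obtain rfl := Finset.mem_singleton.1 hn
        exact ⟨by decide, hasOrd_one _⟩
      · change n ∈ ({1} : Finset ℕ) at hn
        obtain rfl := Finset.mem_singleton.1 hn
        exact ⟨by decide, hasOrd_one _⟩)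
    {1, 3, 5, 7, 11, 23, 4, 8, 9, 12, 15, 16, 20, 24}
    (by
      intro m hm
      simp only [Finset.mem_insert, Finset.mem_singleton] at hm
      rcases hm with rfl | rfl | rfl | rfl | rfl | rfl | rfl | rfl | rfl | rfl | rfl | rfl | rfl | rfl
      · exact hasOrd_one _
      · exact hd 3 (by norm_num) (by norm_num)
      · exact hd 5 (by norm_num) (by norm_num)
      · exact hd 7 (by norm_num) (by norm_num)
      · exact hd 11 (by norm_num) (by norm_num)
      · exact hd 23 (by norm_num) (by norm_num)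
      · exact (hS 4 KSp6.four).of_subgroup
      · exact (hS 8 KSp6.eight).of_subgroup
      · exact (hS 9 KSp6.nine).of_subgroup
      · exact (hS 12 KSp6.twelve).of_subgroup
      · exact (hS 15 KSp6.fifteen).of_subgroup
      · refine hasOrd_co2 (m := 8242322) (P := 982854572126671743928810886658052448) (by norm_num) [2] ?_
          (by decide +kernel)
        intro p hp
        rw [show 16 = 2 ^ 4 by norm_num, Nat.primeFactors_prime_pow (by norm_num) Nat.prime_two] at hp
        simpa using hp
      · refine hasOrd_co2 (m := 57274) (P := 1839925811133086075950331767497815) (by norm_num) [2, 5] ?_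
          (by decide +kernel)
        intro p hp
        have h1 := Nat.dvd_of_mem_primeFactors hp
        have h2 := Nat.prime_of_mem_primeFactors hp
        rw [show 20 = 2 ^ 2 * 5 by norm_num, h2.dvd_mul] at h1
        rcases h1 with h1 | h1
        · rw [(Nat.prime_dvd_prime_iff_eq h2 Nat.prime_two).1 (h2.dvd_of_dvd_pow h1)]; simp
        · rw [(Nat.prime_dvd_prime_iff_eq h2 Nat.prime_five).1 h1]; simp
      · refine hasOrd_co2 (m := 3816478) (P := 21595302547208373887720078126921271) (by norm_num) [2, 3] ?_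
          (by decide +kernel)
        intro p hp
        have h1 := Nat.dvd_of_mem_primeFactors hp
        have h2 := Nat.prime_of_mem_primeFactors hp
        rw [show 24 = 2 ^ 3 * 3 by norm_num, h2.dvd_mul] at h1
        rcases h1 with h1 | h1
        · rw [(Nat.prime_dvd_prime_iff_eq h2 Nat.prime_two).1 (h2.dvd_of_dvd_pow h1)]; simp
        · rw [(Nat.prime_dvd_prime_iff_eq h2 Nat.prime_three).1 h1]; simp)
    (by
      intro i
      fin_cases i
      · decide
      · decide
      · decide)
  have hk' : 21 ≤ Nat.card (ConjClasses Spor.Co2) := by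
    refine le_trans ?_ hk
    rw [Fin.sum_univ_three]
    decide
  have hna : H393.Iso.NA 23 Spor.Co2 := H393.Iso.na_co2_model
  obtain ⟨x, hx⟩ := hd 23 (by norm_num) (by norm_num)
  have hc := H547.SelfCent.Conway.co2 (G := Spor.Co2) ⟨MulEquiv.refl _⟩ hna hx
  exact big_of_isolated (r := 23) (n := 1839366144000) (e := 11) (m := 2) (k := 21) (by norm_num) hx hc
    (by rw [hcard]) (by norm_num) (by norm_num) (by norm_num) hk' (by norm_num)

/-- **the row `Co2`** -/
theorem co2 {S : Type*} [Group S] (h : Cfsg.Spor.IsoCo2 S) : Cfsg.Agent.H504.Zeros.Big S := by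
  obtain ⟨e⟩ := h
  exact Big.of_equiv e co2_model

end Cfsg.Agent.H153.Zeros
end

-- part: H455/ZerosFi24
section
/-!
# S4895: the row of `Fi₂₄'` (helper455)
-/

set_option autoImplicit false

namespace Cfsg.Agent.H455.ZerosFi24

open Cfsg Cfsg.Agent.H504.Zeros Cfsg.Agent.H92.KTools Cfsg.Agent.H455.ZeroTools Cfsg.Agent.H455.FewDZ

theorem chk23 : chk 1255205709190661721292800 23 = true := by decide +kernel

/-- element orders of `A_k`, `k ≥ 11` -/
theorem alt_orders {G : Type*} [Group G] {k : ℕ} (hk : 11 ≤ k)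
    (φ : alternatingGroup (Fin k) →* G) (hφ : Function.Injective φ) :
    ∀ n ∈ ({1, 2, 3, 4, 5, 6, 7, 8, 9, 10, 11, 12, 14, 15, 20, 21} : Finset ℕ), HasOrd G n := by
  have key : ∀ m : Multiset ℕ, m.sum ≤ 11 → (∀ a ∈ m, 2 ≤ a) → Even (m.sum + Multiset.card m) →
      HasOrd G m.lcm :=
    fun m h1 h2 h3 => (Cfsg.Agent.H328.KSpor.hasOrd_alt m (h1.trans hk) h2 h3).of_injective φ hφ
  intro n hn
  simp only [Finset.mem_insert, Finset.mem_singleton] at hn
  rcases hn with rfl | rfl | rfl | rfl | rfl | rfl | rfl | rfl | rfl | rfl | rfl | rfl | rfl | rfl | rfl | rfl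
  · exact hasOrd_one G
  · exact key {2, 2} (by decide) (by decide) (by decide)
  · exact key {3} (by decide) (by decide) (by decide)
  · exact key {2, 4} (by decide) (by decide) (by decide)
  · exact key {5} (by decide) (by decide) (by decide)
  · exact key {2, 2, 3} (by decide) (by decide) (by decide)
  · exact key {7} (by decide) (by decide) (by decide)
  · exact key {2, 8} (by decide) (by decide) (by decide)
  · exact key {9} (by decide) (by decide) (by decide)
  · exact key {2, 2, 5} (by decide) (by decide) (by decide)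
  · exact key {11} (by decide) (by decide) (by decide)
  · exact key {2, 3, 4} (by decide) (by decide) (by decide)
  · exact key {2, 2, 7} (by decide) (by decide) (by decide)
  · exact key {3, 5} (by decide) (by decide) (by decide)
  · exact key {2, 4, 5} (by decide) (by decide) (by decide)
  · exact key {3, 7} (by decide) (by decide) (by decide)

/-- an alternating group of degree 11 in `Fi₂₄'` -/
theorem a11 : ∃ ψ : alternatingGroup (Fin 11) →* Spor.Fi24', Function.Injective ψ := by
  obtain ⟨φ, hφ⟩ := Cfsg.Agent.H328.KSpor.s11_fi24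
  have hmem : ∀ x : alternatingGroup (Fin 11), φ x ∈ commutator Spor.Fi24 := by
    intro x
    have h1 : (x : Equiv.Perm (Fin 11)) ∈ commutator (Equiv.Perm (Fin 11)) := by
      rw [alternatingGroup.commutator_perm_eq (by simp)]
      exact x.2
    have h2 : (commutator (Equiv.Perm (Fin 11))).map φ ≤ commutator Spor.Fi24 := by
      rw [commutator_def, commutator_def, Subgroup.map_commutator]
      exact Subgroup.commutator_mono le_top le_top
    exact h2 (Subgroup.mem_map_of_mem φ h1)
  refine ⟨(φ.comp (alternatingGroup (Fin 11)).subtype).codRestrict (commutator Spor.Fi24) hmem, ?_⟩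
  intro x y hxy
  have h1 : φ x = φ y := congrArg Subtype.val hxy
  exact Subtype.ext (hφ h1)

/-- **The row of `Fi₂₄'`.** -/
theorem fi24 {S : Type*} [Group S] (h : Cfsg.Spor.IsoFi24' S) : Big S := by
  obtain ⟨e⟩ := h
  refine Big.of_equiv e ?_
  have hc : Nat.card Cfsg.Spor.Fi24' = 1255205709190661721292800 :=
    Cfsg.Agent.R08.FiTwentyFour.card_commutator
  have hfin : Finite Cfsg.Spor.Fi24' := Nat.finite_of_card_ne_zero (by rw [hc]; norm_num)
  have h23 : Fact (Nat.Prime 23) := ⟨by norm_num⟩
  obtain ⟨ψ, hψ⟩ := a11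
  have hp : ∀ p : ℕ, p.Prime → p ∣ 1255205709190661721292800 → HasOrd Cfsg.Spor.Fi24' p :=
    fun p hp hd => hasOrd_prime hp (by rw [hc]; exact hd)
  refine big_of_orders_few (r := 23) (n := 54574161269159205273600) (e := 11) (m := 2)
    Cfsg.Agent.H713.Spor.FiTF.hasDZ_23 hc (by norm_num) (by norm_num) (by norm_num)
    (by norm_num) (by norm_num)
    (Cfsg.Agent.H393.Iso.NA.of_card fun t ht => Cfsg.Agent.H713.Spor.FiTF.not_dvd (by norm_num) (by norm_num)
      (by norm_num) (by norm_num) t ht) chk23
    ({1, 2, 3, 4, 5, 6, 7, 8, 9, 10, 11, 12, 14, 15, 20, 21} ∪ {13, 17, 29}) ?_ (by decide) (by decide)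
  intro n hn
  rcases Finset.mem_union.1 hn with hn | hn
  · exact alt_orders le_rfl ψ hψ n hn
  · simp only [Finset.mem_insert, Finset.mem_singleton] at hn
    rcases hn with rfl | rfl | rfl
    · exact hp 13 (by norm_num) (by norm_num)
    · exact hp 17 (by norm_num) (by norm_num)
    · exact hp 29 (by norm_num) (by norm_num)

end Cfsg.Agent.H455.ZerosFi24
end
end

-- part: H153/ZerosCo3
section
set_option linter.all false
open scoped Cfsg.Agent.FastGrp

/-!
# S4895: the row `Co3` (helper153)
-/

set_option autoImplicit false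

namespace Cfsg.Agent.H153.Zeros

open Subgroup Cfsg Cfsg.Agent.H92.KTools Cfsg.Agent.H771 Cfsg.Agent.H771.KTools Cfsg.Agent.H504.Zeros

theorem co3_model : Big SporRec.Co3.Chain.G3 := by
  have e' : SporRec.Co3.Chain.G3 ≃* Spor.Co3 := SporRec.Co3.Model.equivCo3
  have hcard : Nat.card SporRec.Co3.Chain.G3 = 495766656000 := SporRec.Co3.Chain.isCo3_G3.2
  have hfG : Finite SporRec.Co3.Chain.G3 := Nat.finite_of_card_ne_zero (by rw [hcard]; norm_num)
  obtain ⟨π, N⟩ := KFacts.Co3D4.exists_NS_G3
  obtain ⟨w, hw, hw1, hle, hdvd⟩ := H701.exists_w_co3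
  have hZc : Nat.card (centralizer ({SporRec.Co3.Ident.Z} : Set SporRec.Co3.Chain.G3)) = 2903040 :=
    KFacts.Co3.Syl.card_Z
  have hfS : Finite SporRec.TwoSp6.Sp.S := Finite.of_surjective π N.surj
  have hS : ∀ m, HasOrd SporRec.TwoSp6.Sp.S m → HasOrd (centralizer ({SporRec.Co3.Ident.Z} : Set _)) m :=
    fun m h => h.of_surjective π N.surj
  have hd : ∀ p, p.Prime → p ∣ 495766656000 → HasOrd SporRec.Co3.Chain.G3 p := fun p hp hd =>
    hasOrd_prime hp (by rwa [hcard])
  have hk := count_fam (G := SporRec.Co3.Chain.G3) ![SporRec.Co3.Ident.Z, w]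
    (by
      intro i; fin_cases i
      · exact SporRec.Co3.Ident.Z_sq
      · exact hw)
    (by
      intro i; fin_cases i
      · exact KFacts.Co3D4.Z_ne
      · exact hw1)
    (by
      have h0 : ¬ IsConj SporRec.Co3.Ident.Z w := by
        intro hc
        have h2 := card_conj hc
        omega
      intro i j h
      fin_cases i <;> fin_cases j
      · rfl
      · exact absurd h h0
      · exact absurd h.symm h0
      · rfl)
    ![{1, 3, 5, 7, 9, 15}, {1, 3, 5, 11}]
    (by
      intro i n hn
      fin_cases i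
      · change n ∈ ({1, 3, 5, 7, 9, 15} : Finset ℕ) at hn
        change Odd n ∧ HasOrd (centralizer ({SporRec.Co3.Ident.Z} : Set _)) n
        simp only [Finset.mem_insert, Finset.mem_singleton] at hn
        rcases hn with rfl | rfl | rfl | rfl | rfl | rfl
        · exact ⟨by decide, hasOrd_one _⟩
        · exact ⟨by decide, hasOrd_prime (by norm_num) (by rw [hZc]; norm_num)⟩
        · exact ⟨by decide, hasOrd_prime (by norm_num) (by rw [hZc]; norm_num)⟩
        · exact ⟨by decide, hasOrd_prime (by norm_num) (by rw [hZc]; norm_num)⟩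
        · exact ⟨by decide, hS 9 KSp6.nine⟩
        · exact ⟨by decide, hS 15 KSp6.fifteen⟩
      · change n ∈ ({1, 3, 5, 11} : Finset ℕ) at hn
        change Odd n ∧ HasOrd (centralizer ({w} : Set _)) n
        simp only [Finset.mem_insert, Finset.mem_singleton] at hn
        rcases hn with rfl | rfl | rfl | rfl
        · exact ⟨by decide, hasOrd_one _⟩
        · exact ⟨by decide, hasOrd_prime (by norm_num) ((by norm_num : 3 ∣ 95040).trans hdvd)⟩
        · exact ⟨by decide, hasOrd_prime (by norm_num) ((by norm_num : 5 ∣ 95040).trans hdvd)⟩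
        · exact ⟨by decide, hasOrd_prime (by norm_num) ((by norm_num : 11 ∣ 95040).trans hdvd)⟩)
    {1, 3, 5, 7, 11, 23, 4, 8, 9, 12, 15}
    (by
      intro m hm
      simp only [Finset.mem_insert, Finset.mem_singleton] at hm
      rcases hm with rfl | rfl | rfl | rfl | rfl | rfl | rfl | rfl | rfl | rfl | rfl
      · exact hasOrd_one _
      · exact hd 3 (by norm_num) (by norm_num)
      · exact hd 5 (by norm_num) (by norm_num)
      · exact hd 7 (by norm_num) (by norm_num)
      · exact hd 11 (by norm_num) (by norm_num)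
      · exact hd 23 (by norm_num) (by norm_num)
      · exact (hS 4 KSp6.four).of_subgroup
      · exact (hS 8 KSp6.eight).of_subgroup
      · exact (hS 9 KSp6.nine).of_subgroup
      · exact (hS 12 KSp6.twelve).of_subgroup
      · exact (hS 15 KSp6.fifteen).of_subgroup)
    (by
      intro i
      fin_cases i
      · decide
      · decide)
  have hk' : 21 ≤ Nat.card (ConjClasses SporRec.Co3.Chain.G3) := by
    refine le_trans ?_ hk
    rw [Fin.sum_univ_two]
    decide
  have hna : H393.Iso.NA 23 SporRec.Co3.Chain.G3 := H393.Iso.na_co3 ⟨e'⟩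
  obtain ⟨x, hx⟩ := hd 23 (by norm_num) (by norm_num)
  have hc := H547.SelfCent.Conway.co3 (G := SporRec.Co3.Chain.G3) ⟨e'⟩ hna hx
  exact big_of_isolated (r := 23) (n := 21555072000) (e := 11) (m := 2) (k := 21) (by norm_num) hx hc
    (by rw [hcard]) (by norm_num) (by norm_num) (by norm_num) hk' (by norm_num)

/-- **the row `Co3`** -/
theorem co3 {S : Type*} [Group S] (h : Cfsg.Spor.IsoCo3 S) : Cfsg.Agent.H504.Zeros.Big S := by
  obtain ⟨e⟩ := h
  exact Big.of_equiv (e.trans SporRec.Co3.Model.equivCo3.symm) co3_model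

end Cfsg.Agent.H153.Zeros
end
end
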