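import Cfsg.Agent.H771.KHS
import Cfsg.Agent.H701.ZerosCols
import Cfsg.Agent.H547.SelfCent.McLHS
import Cfsg.Agent.H393.Iso.HS
import Cfsg.Agent.H771.KTools_m3
import Cfsg.Agent.Prune
set_option linter.all false
prune_inst 0x7f00000000000000000000000000000000000000000000000000000000000000000000000000000000000000000000000000000000000000000000000000000000000000000000000000000000000000003fffffffffffffffffffffffffffbeffbdffffffff
open scoped Cfsg.Agent.FastGrp

/-!
# Zeros of characters: `HS` (S4895, helper153)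

`|C(x)| = 11`, `e = 5`, `m = 2`; 15 classes: two classes of elements of orders 2, 6, 10 and the orders
1, 3, 4, 5, 7, 8, 11, 12, 20.
-/

set_option autoImplicit false

namespace Cfsg.Agent.H153.Zeros

open Subgroup Cfsg Cfsg.Agent.H92.KTools Cfsg.Agent.H771.KTools
open Cfsg.Agent.HN.HS100 in
theorem hs_ord {S : Type*} [Group S] (h : Spor.IsoHS S) {m : ℕ} (hm : HasOrd Q m) : HasOrd S m := by
  obtain ⟨e⟩ := h
  obtain ⟨⟨f⟩, -⟩ := HN.AutHS.nonempty_Q
  exact hm.of_equiv (f.trans e.symm)

open Cfsg.Agent.HN.HS100 in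
theorem hs_eight : HasOrd Q 8 :=
  hasOrd_of_ev (L := [tY, tX]) (mem2 inY inX) (by norm_num) [2] (by decide +kernel) (by decide +kernel)

open Cfsg.Agent.HN.HS100 in
theorem hs_twelve : HasOrd Q 12 :=
  hasOrd_of_ev (L := [tY, tX, tY, tY]) (fun P hP => mem2 inY inX P (by
    simp only [List.mem_cons, List.not_mem_nil, or_false] at hP ⊢; tauto)) (by norm_num) [2, 3]
    (by decide +kernel) (by decide +kernel)

open Cfsg.Agent.HN.HS100 in
theorem hs_twenty : HasOrd Q 20 :=
  hasOrd_of_ev (L := [tX, tY, tX, tY, tX, tY, tY, tY, tX, tY, tY, tX, tY]) (fun P hP => mem2 inY inX P (by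
    simp only [List.mem_cons, List.not_mem_nil, or_false] at hP ⊢; tauto)) (by norm_num) [2, 5]
    (by decide +kernel) (by decide +kernel)

theorem hs_classes {S : Type*} [Group S] (h : Spor.IsoHS S) : 15 ≤ Nat.card (ConjClasses S) := by
  have hcard := KFacts.HS.card h
  have hfin : Finite S := Nat.finite_of_card_ne_zero (by rw [hcard]; norm_num)
  obtain ⟨D⟩ := KFacts.HS.exists_mod h
  have hn : ¬ IsConj D.z D.s0 := by
    intro hc
    have h1 := card_conj hc
    have h2 := D.card_cent_s0
    rw [D.card_centralizer] at h1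
    omega
  refine le_trans (by decide) (count_two (G := S) D.zz D.z1 D.s0_sq D.s0_ne hn {3, 5}
    {1, 3, 4, 5, 7, 11, 8, 12, 20} ?_ ?_ (by decide) (by decide))
  · intro p hp
    have h6 : p ∣ 360 → p ∣ Nat.card (centralizer ({D.s0} : Set S)) := fun hd => by
      rw [← D.card_B6] at hd
      exact hd.trans (Subgroup.card_dvd_of_le fun l hl => mem_centralizer_singleton_iff.2 (D.s0_comm hl))
    rw [D.card_centralizer]
    simp only [Finset.mem_insert, Finset.mem_singleton] at hp
    rcases hp with rfl | rfl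
    · exact ⟨by norm_num, by norm_num, by norm_num, h6 (by norm_num)⟩
    · exact ⟨by norm_num, by norm_num, by norm_num, h6 (by norm_num)⟩
  · have hd : ∀ p, p.Prime → p ∣ 44352000 → HasOrd S p := fun p hp hd => hasOrd_prime hp (by rwa [hcard])
    intro m hm
    simp only [Finset.mem_insert, Finset.mem_singleton] at hm
    rcases hm with rfl | rfl | rfl | rfl | rfl | rfl | rfl | rfl | rfl
    · exact hasOrd_one S
    · exact hd 3 (by norm_num) (by norm_num)
    · exact four D.uu D.zz D.z1
    · exact hd 5 (by norm_num) (by norm_num)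
    · exact hd 7 (by norm_num) (by norm_num)
    · exact hd 11 (by norm_num) (by norm_num)
    · exact hs_ord h hs_eight
    · exact hs_ord h hs_twelve
    · exact hs_ord h hs_twenty

/-- **`HS`** -/
theorem hs {S : Type*} [Group S] (h : Cfsg.Spor.IsoHS S) : Cfsg.Agent.H504.Zeros.Big S := by
  have hcard := KFacts.HS.card h
  have hfin : Finite S := Nat.finite_of_card_ne_zero (by rw [hcard]; norm_num)
  have hs : IsSimpleGroup S := by
    obtain ⟨e⟩ := h
    obtain ⟨⟨f⟩, hQ⟩ := HN.AutHS.nonempty_Q
    have : Nontrivial S := (f.trans e.symm).symm.toEquiv.nontrivial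
    exact IsSimpleGroup.isSimpleGroup_of_surjective (f.trans e.symm).toMonoidHom (f.trans e.symm).surjective
  have hna := H393.Iso.na_hs h
  obtain ⟨x, hx⟩ := hasOrd_prime (G := S) (p := 11) (by norm_num) (by rw [hcard]; norm_num)
  have hc := H547.SelfCent.McLHS.hs h hna hcard hx
  exact H504.Zeros.big_of_isolated (by norm_num) hx hc (n := 4032000) (e := 5) (m := 2) (by rw [hcard]) (by norm_num)
    (by norm_num) (by norm_num) (hs_classes h) (by decide)

end Cfsg.Agent.H153.Zeros
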